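import Cfsg.Agent.BpSpor.BFiveZero
import Cfsg.Agent.H255.M5D.Main_m3
import Cfsg.Agent.BpSpor.MFiveHA
import Cfsg.Agent.MFive.JTwo
import Cfsg.Agent.S0399
import Mathlib
import Cfsg.Agent.MFive.Row
import Cfsg.Agent.H961.SevX
import Cfsg.Agent.H415.M5.Syl
import Cfsg.Agent.CoFive.Ranks
import Cfsg.Agent.H850.MonSub
import Cfsg.Agent.FastGrp
import Cfsg.Agent.Prune
set_option linter.all false

section
prune_inst 0x7ff8eafb8bf8addfffff7e7ff7f5cffffdf9ffffe6dff9fbffe8ebff3bff6b2dcbe5fbafefecd2fecef6e23490f87b53fdffceffe26bdc7ffffd5ff45ffbff9fffffbd2d5196b8341ffc6ffffbf077ae7f3fffffffffffffffffffffffffffffffbfffffffff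

-- part: H961/M5/T3Abs
section
prune_inst 0x71504740250000000000008081000020600001900060000151000c400005234000000100028013001008a20020000020030000d0401000000000000040040000002802061040a00020000000b085180c00000000000000000000000000000004000000000
set_option linter.all false
open scoped Cfsg.Agent.FastGrp

/-!
# The situation `Sit` for a group with a chart (helper961; task 2144 of helper777)
-/

set_option autoImplicit false
set_option maxRecDepth 100000

namespace Cfsg.Agent.H961.M5.T3Abs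

open Subgroup Cfsg Cfsg.Agent.BpTab
open Cfsg.Agent.MonsterU Cfsg.Agent.MFive Cfsg.Agent.BpSpor.M5
open Cfsg.Agent.LThreeMB (fr Zx XX zD toCC toCC_inj toXX self CC be be_coe be_eq_one exists_XX_equiv)
open Cfsg.Agent.MonsterU.Ch
open Cfsg.Agent.MonsterU.Lam2 (L2)
open Cfsg.Spor (Co1)
open Cfsg.Agent.H777.M5

/-- The Sylow 5-subgroup of `Co1` -/
def SylFive : Prop := ∀ s : Co1, orderOf s = 5 → fr s = 2 ^ 4 → ∃ S : Subgroup Co1, Nat.card S = 5 ^ 4 ∧ s ∈ S ∧
  (∀ y ∈ S, y * s = s * y) ∧ (∀ y ∈ S, (∀ t ∈ S, y * t = t * y) → y ∈ zpowers s) ∧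
  ∃ s₁ ∈ S, ∃ s₂ ∈ S, s₁ * s₂ * s₁⁻¹ * s₂⁻¹ ∉ zpowers s

variable {G : Type} [Group G] {Q : Subgroup G} {z : G} {eta : G → L2}
  {pi : Subgroup.centralizer ({z} : Set G) →* Co1}

theorem ker_coprime [Finite G] (h : Chart Q z eta pi) {p : ℕ} (hp : p.Prime) (ho : Odd p) :
    (Nat.card ↥pi.ker).Coprime p := by
  rw [Nat.coprime_comm, hp.coprime_iff_not_dvd]
  intro h5
  have h1 : Nat.card ↥pi.ker = Nat.card ↥(pi.ker.map (centralizer ({z} : Set G)).subtype) :=
    (card_map_of_injective (Subgroup.subtype_injective _)).symm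
  rw [h1] at h5
  refine not_dvd h hp ho (h5.trans (card_dvd_of_le ?_))
  rintro _ ⟨c, hc, rfl⟩
  exact (h.pi_eq_one c).1 hc

/-- the element `x' = g⁻¹ x g` has fixed rank 4 -/
theorem fr_conj_four [Finite G] (h : Chart Q z eta pi) (ht : TrNe 5 z pi) (I : CoFive) (h8 : HNEight z pi)
    {x u : centralizer ({z} : Set G)} {g : G} (hx : orderOf x = 5) (hfr : fr (pi x) = 1)
    (huz : (u : G) * z = z * u) (hux : (x : G) * u = u * x) (hne : (u : G) ≠ z) (hg : g * z * g⁻¹ = u)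
    {x' : centralizer ({z} : Set G)} (hx' : (x' : G) = g⁻¹ * x * g) : orderOf x' = 5 ∧ fr (pi x') = 2 ^ 4 := by
  have hp : Nat.Prime 5 := Nat.prime_five
  have ho : Odd 5 := by decide
  have hz2 : z * z = 1 := h.large.z_sq
  have hgx' : g * (x' : G) * g⁻¹ = x := by rw [hx']; group
  have hx'o : orderOf x' = 5 := by
    rw [← Subgroup.orderOf_coe, hx', orderOf_conj'', Subgroup.orderOf_coe, hx]
  have hu2 : (u : G) * u = 1 := by
    rw [← hg]
    calc g * z * g⁻¹ * (g * z * g⁻¹) = g * (z * z) * g⁻¹ := by group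
      _ = 1 := by rw [hz2]; group
  have hu1 : (u : G) ≠ 1 := by
    intro h1
    apply h.large.z_ne
    calc z = g⁻¹ * (g * z * g⁻¹) * g := by group
      _ = 1 := by rw [hg, h1]; group
  refine ⟨hx'o, ?_⟩
  rcases I.ranks (pi x') (orderOf_pi h hp ho hx'o) with h1 | h1 | h1
  · exfalso
    refine ht x x' u g hx hx'o hfr h1 huz hu2 hu1 hne hux ?_
    calc g * ((x' : G) * z) * g⁻¹ = (g * x' * g⁻¹) * (g * z * g⁻¹) := by group
      _ = x * u := by rw [hgx', hg]
  · exact h1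
  · exfalso
    obtain ⟨h2, h3, -⟩ := simple_of_isoHN (h8 x' hx'o h1)
    obtain ⟨-, ⟨e⟩⟩ := exists_XX_equiv hgx'
    refine not_simple h ho hx (fun d hd hc => isolated h ht hx hfr d hd hc)
      ((MulEquiv.isSimpleGroup_congr e).1 h2) ?_
    intro h4
    apply h3
    rw [eq_top_iff]
    intro a _
    rw [Subgroup.mem_center_iff]
    intro b
    apply e.injective
    rw [map_mul, map_mul]
    have h5 : e a ∈ Subgroup.center (XX (x : G)) := by rw [h4]; trivial
    exact Subgroup.mem_center_iff.1 h5 (e b)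

/-- a 5-group in `C(z)` has order at most `5 ^ 4` -/
theorem card_le [Finite G] (h : Chart Q z eta pi) (hco : ¬ 5 ^ 5 ∣ Nat.card Co1) {R : Subgroup G} (hR : IsPGroup 5 ↥R)
    (hRz : R ≤ centralizer ({z} : Set G)) : Nat.card ↥R ≤ 5 ^ 4 := by
  have hp : Nat.Prime 5 := Nat.prime_five
  have hpf : Fact (Nat.Prime 5) := ⟨hp⟩
  let R' : Subgroup ↥(centralizer ({z} : Set G)) := R.subgroupOf _
  have e : ↥R' ≃* ↥R := subgroupOfEquivOfLe hRz
  have hR' : IsPGroup 5 ↥R' := hR.of_equiv e.symm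
  have h1 := Lift.card_map pi (ker_coprime h hp (by decide)) hR'
  rw [Nat.card_congr e.toEquiv] at h1
  have hfc : Finite Co1 := Finite.of_surjective pi h.pi_surj
  have h2 : Nat.card ↥R ∣ Nat.card Co1 := by rw [← h1]; exact card_subgroup_dvd_card _
  obtain ⟨k, hk⟩ := IsPGroup.iff_card.1 hR
  rw [hk] at h2 ⊢
  by_contra hlt
  have h3 : 4 < k := by
    by_contra hk4
    exact hlt (Nat.pow_le_pow_right (by norm_num) (by omega))
  exact hco ((pow_dvd_pow 5 (by omega)).trans h2)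

/-- **`Sit` for a group with a chart.** -/
theorem exists_sit_chart [Finite G] (h : Chart Q z eta pi) (ht : TrNe 5 z pi) (I : CoFive)
    (hJ : ∀ s : Co1, orderOf s = 5 → fr s = 1 → Spor.IsoJ2 (XX s)) (h8 : HNEight z pi)
    (hcard : ¬ 5 ^ 10 ∣ Nat.card G) (hco : ¬ 5 ^ 5 ∣ Nat.card Co1) (A1 : SylFive)
    {x u : centralizer ({z} : Set G)} {g : G} (hx : orderOf x = 5) (hfr : fr (pi x) = 1)
    (hxu : (x : G) * u = u * x) (hne : (u : G) ≠ z) (hg : g * z * g⁻¹ = u)
    (A2 : ∀ R : Subgroup Co1, (∀ y ∈ R, y * pi x = pi x * y) → (∀ y ∈ R, y * pi u = pi u * y) → Nat.card R ≠ 125) :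
    ∃ S : Sit G, S.x = x ∧ S.u = u ∧ S.z = z := by
  have hp : Nat.Prime 5 := Nat.prime_five
  have hpf : Fact (Nat.Prime 5) := ⟨hp⟩
  have ho : Odd 5 := by decide
  have hz2 : z * z = 1 := h.large.z_sq
  have hx5 : x ^ 5 = 1 := by rw [← hx, pow_orderOf_eq_one]
  have hxz : (x : G) * z = z * x := mem_centralizer_singleton_iff.1 x.2
  have huz : (u : G) * z = z * u := mem_centralizer_singleton_iff.1 u.2
  have hxo : orderOf (x : G) = 5 := by rw [Subgroup.orderOf_coe, hx]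
  have hu2 : (u : G) * u = 1 := by
    rw [← hg]
    calc g * z * g⁻¹ * (g * z * g⁻¹) = g * (z * z) * g⁻¹ := by group
      _ = 1 := by rw [hz2]; group
  have hJx := hJ _ (orderOf_pi h hp ho hx) hfr
  obtain ⟨f1, f2, f3, f4⟩ := j2_facts hJx
  obtain ⟨N, hN⟩ := exists_rad h (by norm_num) hx hfr (fun d hd hc => isolated h ht hx hfr d hd hc) f1 f2
  -- the homomorphism to `J₂`
  let sw : ↥(centralizer ({(x : G)} : Set G) ⊓ centralizer ({z} : Set G)) ≃* CC z (x : G) :=
    MulEquiv.subgroupCongr (inf_comm _ _)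
  let f : ↥(centralizer ({(x : G)} : Set G) ⊓ centralizer ({z} : Set G)) →* XX (pi x) :=
    ((QuotientGroup.mk' (Zx (pi x))).comp (be pi x)).comp sw.toMonoidHom
  have hfs : Function.Surjective f :=
    ((QuotientGroup.mk'_surjective (Zx (pi x))).comp (be_surj h hp ho hx5)).comp sw.surjective
  have hfk : ∀ c : ↥(centralizer ({(x : G)} : Set G) ⊓ centralizer ({z} : Set G)),
      f c = 1 ↔ ∃ k : ℕ, (c : G) = (x : G) ^ k ∨ (c : G) = (x : G) ^ k * z := by
    intro c
    have hcx : (c : G) * x = x * c := mem_centralizer_singleton_iff.1 (Subgroup.mem_inf.1 c.2).1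
    have hcz : (c : G) * z = z * c := mem_centralizer_singleton_iff.1 (Subgroup.mem_inf.1 c.2).2
    have h0 : f c = 1 ↔ ∃ i : ℤ, (pi x) ^ i = pi ⟨c, mem_centralizer_singleton_iff.2 hcz⟩ := by
      have h1 : f c = 1 ↔ be pi x (sw c) ∈ Zx (pi x) := QuotientGroup.eq_one_iff _
      rw [h1]
      constructor
      · intro h2
        obtain ⟨i, hi⟩ := Subgroup.mem_zpowers_iff.1 h2
        exact ⟨i, congrArg Subtype.val hi⟩
      · rintro ⟨i, hi⟩
        exact Subgroup.mem_zpowers_iff.2 ⟨i, Subtype.ext hi⟩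
    rw [h0]
    constructor
    · rintro ⟨i, hi⟩
      obtain ⟨k, hk⟩ : ∃ k : ℕ, x ^ k = x ^ i := by
        have h1 : x ^ i ∈ zpowers x := ⟨i, rfl⟩
        rw [← mem_powers_iff_mem_zpowers] at h1
        exact h1
      have h3 : pi ((x ^ k)⁻¹ * ⟨c, mem_centralizer_singleton_iff.2 hcz⟩) = 1 := by
        rw [hk, map_mul, map_inv, map_zpow, hi, inv_mul_cancel]
      have h4 := (h.pi_eq_one _).1 h3
      have hcx' : Commute ((x : G) ^ k)⁻¹ (x : G) := ((Commute.refl (x : G)).pow_left k).inv_left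
      have h6 := CpAutBFive.eq_of_fr h ho hx5 hfr h4 (by
        show ((x : G) ^ k)⁻¹ * c * x = x * (((x : G) ^ k)⁻¹ * c)
        rw [mul_assoc, hcx, ← mul_assoc, hcx'.eq, mul_assoc])
      refine ⟨k, ?_⟩
      rcases h6 with h5 | h5
      · left
        have h6 : ((x : G) ^ k)⁻¹ * (c : G) = 1 := h5
        rw [inv_mul_eq_one] at h6
        exact h6.symm
      · right
        have h6 : ((x : G) ^ k)⁻¹ * (c : G) = z := h5
        rw [inv_mul_eq_iff_eq_mul] at h6
        exact h6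
    · rintro ⟨k, hk⟩
      refine ⟨k, ?_⟩
      rw [zpow_natCast, ← map_pow]
      rw [h.pi_eq]
      rcases hk with hk | hk
      · have e1 : ((x ^ k : centralizer ({z} : Set G)) : G)⁻¹ * (c : G) = 1 := by
          rw [hk]; exact inv_mul_cancel _
        rw [e1]
        exact Q.one_mem
      · have e1 : ((x ^ k : centralizer ({z} : Set G)) : G)⁻¹ * (c : G) = z := by
          rw [hk]; exact inv_mul_cancel_left _ _
        rw [e1]
        exact h.large.z_mem
  -- odd powers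
  have hodd : ∀ k : ℕ, ((x : G) ^ k) * ((x : G) ^ k) = 1 → (x : G) ^ k = 1 := by
    intro k hk
    have h1 : ((x : G) ^ k) ^ 5 = 1 := by rw [← pow_mul, mul_comm, pow_mul, coe_pow hx5, one_pow]
    calc (x : G) ^ k = ((x : G) ^ k) ^ 5 * ((((x : G) ^ k) * ((x : G) ^ k)) * (((x : G) ^ k) * ((x : G) ^ k)))⁻¹ := by
          group
      _ = 1 := by rw [h1, hk]; group
  -- the subgroup of order `5 ^ 4`
  have hx'z : g⁻¹ * (x : G) * g ∈ centralizer ({z} : Set G) := by
    rw [mem_centralizer_singleton_iff]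
    calc g⁻¹ * (x : G) * g * z = g⁻¹ * (x * (g * z * g⁻¹)) * g := by group
      _ = g⁻¹ * ((g * z * g⁻¹) * x) * g := by rw [hg, hxu]
      _ = z * (g⁻¹ * x * g) := by group
  obtain ⟨hx'o, hx'f⟩ := fr_conj_four h ht I h8 hx hfr huz hxu hne hg (x' := ⟨_, hx'z⟩) rfl
  obtain ⟨T, hTc, hxT, hTx, hTcen, t₁, ht₁, t₂, ht₂, htt⟩ := Lift.exists_sub' pi h.pi_surj
    (ker_coprime h hp ho) hx'o (A1 _ (orderOf_pi h hp ho hx'o) hx'f)
  let φ : centralizer ({z} : Set G) →* G := (MulAut.conj g).toMonoidHom.comp (centralizer ({z} : Set G)).subtype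
  have hφ : ∀ c, φ c = g * (c : G) * g⁻¹ := fun c => rfl
  have hφi : Function.Injective φ := (MulAut.conj g).injective.comp (Subgroup.subtype_injective _)
  have hφx : φ ⟨_, hx'z⟩ = (x : G) := by
    show g * (g⁻¹ * (x : G) * g) * g⁻¹ = x
    group
  have hmem : ∀ c, c ∈ zpowers (⟨_, hx'z⟩ : centralizer ({z} : Set G)) ↔ φ c ∈ zpowers (x : G) := by
    intro c
    rw [mem_zpowers_iff, mem_zpowers_iff]
    constructor
    · rintro ⟨i, rfl⟩
      exact ⟨i, by rw [map_zpow, hφx]⟩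
    · rintro ⟨i, hi⟩
      refine ⟨i, hφi ?_⟩
      rw [map_zpow, hφx, hi]
  refine ⟨{
    x := x
    z := z
    u := u
    x_ord := hxo
    z_sq := hz2
    z_ne := h.large.z_ne
    u_sq := hu2
    xz := hxz
    xu := hxu
    uz := huz
    N := N.map (centralizer ({(x : G)} : Set G)).subtype
    N_le := map_subtype_le _
    N_odd := by
      rw [card_map_of_injective (Subgroup.subtype_injective _)]
      exact hN.oN
    N_conj := by
      rintro c hc _ ⟨n, hn, rfl⟩
      exact ⟨_, hN.nN.conj_mem n hn ⟨c, hc⟩, rfl⟩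
    x_N := ⟨_, hN.xN, rfl⟩
    N_sup := by
      intro c hc
      obtain ⟨n, hn, d, hd, hcd⟩ := hN.sup ⟨c, hc⟩
      refine ⟨n, ⟨n, hn, rfl⟩, d, mem_centralizer_singleton_iff.1 d.2, congrArg Subtype.val hd,
        congrArg Subtype.val hcd⟩
    J := XX (pi x)
    J_simple := f1
    J_card := by
      obtain ⟨e⟩ := hJx
      rw [Nat.card_congr e.toEquiv, Cfsg.Agent.J2Sylow.SporSylow.card_J2]
    f := f
    f_surj := hfs
    f_ker := hfk
    f_u := by
      intro c hc h1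
      obtain ⟨k, hk | hk⟩ := (hfk c).1 h1
      · rw [hc] at hk
        have h2 := hodd k (by rw [← hk]; exact hu2)
        rw [h2] at hk
        apply h.large.z_ne
        calc z = g⁻¹ * (g * z * g⁻¹) * g := by group
          _ = 1 := by rw [hg, hk]; group
      · rw [hc] at hk
        have h2 : (x : G) ^ k = u * z := by rw [hk, mul_assoc, hz2, mul_one]
        have h3 := hodd k (by
          rw [h2]
          calc (u : G) * z * (u * z) = u * (z * u) * z := by group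
            _ = (u * u) * (z * z) := by rw [← huz]; group
            _ = 1 := by rw [hu2, hz2, mul_one])
        rw [h3, one_mul] at hk
        exact hne hk
    no125 := by
      intro R hRx hRz hRu hR
      have hRp : IsPGroup 5 ↥R := IsPGroup.of_card (n := 3) (by rw [hR]; norm_num)
      let R' : Subgroup ↥(centralizer ({z} : Set G)) := R.subgroupOf _
      have e : ↥R' ≃* ↥R := subgroupOfEquivOfLe hRz
      have hR' : IsPGroup 5 ↥R' := hRp.of_equiv e.symm
      have h1 := Lift.card_map pi (ker_coprime h hp (by decide)) hR'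
      rw [Nat.card_congr e.toEquiv, hR] at h1
      refine A2 (R'.map pi) ?_ ?_ h1
      · rintro _ ⟨c, hc, rfl⟩
        rw [← map_mul, ← map_mul]
        congr 1
        exact Subtype.ext (mem_centralizer_singleton_iff.1 (hRx (mem_subgroupOf.1 hc)))
      · rintro _ ⟨c, hc, rfl⟩
        rw [← map_mul, ← map_mul]
        congr 1
        exact Subtype.ext (mem_centralizer_singleton_iff.1 (hRu (mem_subgroupOf.1 hc)))
    S := T.map φ
    S_x := by
      rintro _ ⟨c, hc, rfl⟩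
      rw [mem_centralizer_singleton_iff, ← hφx, ← map_mul, hTx c hc, map_mul]
    S_u := by
      rintro _ ⟨c, hc, rfl⟩
      rw [mem_centralizer_singleton_iff, hφ, ← hg]
      have hcz : (c : G) * z = z * c := mem_centralizer_singleton_iff.1 c.2
      calc g * (c : G) * g⁻¹ * (g * z * g⁻¹) = g * (c * z) * g⁻¹ := by group
        _ = g * (z * c) * g⁻¹ := by rw [hcz]
        _ = g * z * g⁻¹ * (g * c * g⁻¹) := by group
    S_card := by
      rw [card_map_of_injective hφi]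
      exact hTc
    S_center := by
      rintro _ ⟨c, hc, rfl⟩ hs
      rw [← hmem]
      refine hTcen c hc ?_
      intro t ht'
      apply hφi
      rw [map_mul, map_mul]
      exact hs _ ⟨t, ht', rfl⟩
    S_nab := by
      refine ⟨φ t₁, ⟨t₁, ht₁, rfl⟩, φ t₂, ⟨t₂, ht₂, rfl⟩, ?_⟩
      rw [← map_inv, ← map_inv, ← map_mul, ← map_mul, ← map_mul, ← hmem]
      exact htt
    S_max := by
      intro R hR hRx hRu
      have hRp : IsPGroup 5 ↥(R.map (MulAut.conj g⁻¹).toMonoidHom) := hR.map _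
      have h1 := card_le h hco hRp (by
        rintro _ ⟨r, hr, rfl⟩
        rw [mem_centralizer_singleton_iff]
        have hru : r * (u : G) = u * r := mem_centralizer_singleton_iff.1 (hRu hr)
        show g⁻¹ * r * g⁻¹⁻¹ * z = z * (g⁻¹ * r * g⁻¹⁻¹)
        calc g⁻¹ * r * g⁻¹⁻¹ * z = g⁻¹ * (r * (g * z * g⁻¹)) * g := by group
          _ = g⁻¹ * ((g * z * g⁻¹) * r) * g := by rw [hg, hru]
          _ = z * (g⁻¹ * r * g⁻¹⁻¹) := by group)
      rwa [card_map_of_injective (MulAut.conj g⁻¹).injective] at h1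
    not_dvd := hcard }, rfl, rfl, rfl⟩

end Cfsg.Agent.H961.M5.T3Abs
end

-- part: H961/M5/T3_mg
section
prune_inst 0x100001000000000000000000000000000000000000000000000004000000200000000000000000100000000000000000000000100000000000000000000000000000000400000000000000000000000000000000000000000000000000000000000000000
set_option linter.all false
open scoped Cfsg.Agent.FastGrp

-- part: H961/M5/T3
section
/-!
# The situation `Sit` for the model of the Monster (helper961; task 2144 of helper777)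

`exists_sit_of` : from the Sylow 5-subgroup of `Co1` (`A1`) and the non-existence of a group of order 125 (`A2`);
`exists_sit_of_syl` : from `A1` (`A2` is helper219's).
-/

set_option autoImplicit false
set_option maxRecDepth 100000

namespace Cfsg.Agent.H961.M5.T3

open Subgroup Cfsg
open Cfsg.Agent.MonsterU Cfsg.Agent.MFive
open Cfsg.Agent.LThreeMB (fr XX KChart.Cent KChart.pi KChart.chart)
open Cfsg.Agent.MonsterX Cfsg.Agent.MonsterX.InstData
open Cfsg.Agent.SporadicA.Co0Mono (signCo0)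
open Cfsg.Agent.MFive.Row (hc)
open Cfsg.Spor (Co1)
open Cfsg.Agent.H777.M5

/-- no subgroup of order 125 commuting with the two elements -/
def NoOneTwoFive : Prop := ∀ R : Subgroup Co1,
  (∀ y ∈ R, y * (QuotientGroup.mk (JData.e 0) : Co1) = QuotientGroup.mk (JData.e 0) * y) →
  (∀ y ∈ R, y * (QuotientGroup.mk (JData.e 1) : Co1) = QuotientGroup.mk (JData.e 1) * y) → Nat.card R ≠ 125

theorem hJ : ∀ s : Co1, orderOf s = 5 → fr s = 1 → Spor.IsoJ2 (XX s) := fun _ hs hf => JTwo.isoJ2 hs hf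

theorem card_co1 : ¬ 5 ^ 5 ∣ Nat.card Co1 := by
  rw [Cfsg.Agent.S0399.result.2]
  norm_num

theorem card_model : ¬ 5 ^ 10 ∣ Nat.card ↥InstData.M.G := by
  rw [MonsterP.EquivOf.isM_model.2]
  norm_num

/-- **The situation `Sit` for the Monster.** -/
theorem exists_sit_of (A1 : T3Abs.SylFive) (A2 : NoOneTwoFive) :
    ∃ (S : Sit ↥InstData.M.G) (hx : S.x ∈ Subgroup.centralizer ({KDone.K.z} : Set ↥InstData.M.G))
      (hu : S.u ∈ Subgroup.centralizer ({KDone.K.z} : Set ↥InstData.M.G)), S.z = KDone.K.z ∧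
      KChart.pi hc ⟨S.x, hx⟩ = QuotientGroup.mk (JData.e 0) ∧ KChart.pi hc ⟨S.u, hu⟩ = QuotientGroup.mk (JData.e 1) := by
  have hfin := MFive.Row.finite_model
  obtain ⟨x, u, g, hx, hxs, hus, -, hxu, hne, hg⟩ := Sec.exists_pair Nat.prime_five (by decide) KDone.lft
    LThreeMBTr.tens MFive.Row.hc MFive.Row.two JTwo.order_s1 Oct.fr_A Oct.wt_cw
    (congrArg (QuotientGroup.mk : Co0 → Co1) JTwo.eps_comm).symm
  rw [← JData.e_zero] at hxs
  rw [← JData.e_one] at hus
  have hfr : fr (KChart.pi MFive.Row.hc x) = 1 := by rw [hxs, JData.e_zero]; exact Oct.fr_A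
  obtain ⟨S, h1, h2, h3⟩ := T3Abs.exists_sit_chart (KChart.chart KDone.lft MFive.Row.hc) BpSpor.M5.trNe
    (CpAutBFive.Closed.coFive hJ) hJ CpAutBFive.Closed.hnEight card_model card_co1 A1 hx hfr hxu hne hg
    (by rw [hxs, hus]; exact A2)
  refine ⟨S, h1 ▸ x.2, h2 ▸ u.2, h3, ?_, ?_⟩
  · rw [← hxs]
    congr 1
    exact Subtype.ext h1
  · rw [← hus]
    congr 1
    exact Subtype.ext h2

/-- **The situation `Sit` for the Monster** from the Sylow 5-subgroup of `Co1`. -/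
theorem exists_sit_of_syl (A1 : T3Abs.SylFive) :
    ∃ (S : Sit ↥InstData.M.G) (hx : S.x ∈ Subgroup.centralizer ({KDone.K.z} : Set ↥InstData.M.G))
      (hu : S.u ∈ Subgroup.centralizer ({KDone.K.z} : Set ↥InstData.M.G)), S.z = KDone.K.z ∧
      KChart.pi hc ⟨S.x, hx⟩ = QuotientGroup.mk (JData.e 0) ∧ KChart.pi hc ⟨S.u, hu⟩ = QuotientGroup.mk (JData.e 1) :=
  exists_sit_of A1 fun R h0 h1 => Cfsg.Agent.H219.No125.no125 R h0 h1

end Cfsg.Agent.H961.M5.T3
end

-- part: H211/M5/Base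
section
/-!
# S5232 (Monster, p = 5), part B: the normal 5-subgroup of `C(x)` (helper211)

`SitC C` : the situation of `H777/M5/Sit.lean` inside the group `C = C(x)`.
-/

set_option autoImplicit false
set_option linter.unusedSectionVars false
set_option linter.style.haveILetI false

namespace Cfsg.Agent.H211.M5

open Subgroup

/-- The situation inside `C(x)`. -/
structure SitC (C : Type) [Group C] where
  x : C
  z : C
  u : C
  x_ord : orderOf x = 5
  x_cen : ∀ g : C, g * x = x * g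
  z_sq : z * z = 1
  z_ne : z ≠ 1
  u_sq : u * u = 1
  uz : u * z = z * u
  N : Subgroup C
  N_nor : N.Normal
  N_odd : Odd (Nat.card N)
  x_N : x ∈ N
  N_sup : ∀ g : C, ∃ n ∈ N, ∃ h, h * z = z * h ∧ g = n * h
  J : Type
  [grpJ : Group J]
  J_simple : IsSimpleGroup J
  J_card : Nat.card J = 604800
  f : ↥(centralizer {z} : Subgroup C) →* J
  f_surj : Function.Surjective f
  f_ker : ∀ h : ↥(centralizer {z} : Subgroup C), f h = 1 ↔ ∃ k : ℕ, (h : C) = x ^ k ∨ (h : C) = x ^ k * z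
  no125 : ∀ R : Subgroup C, R ≤ centralizer {z} → R ≤ centralizer {u} → Nat.card R ≠ 125
  S : Subgroup C
  S_u : S ≤ centralizer {u}
  S_card : Nat.card S = 5 ^ 4
  S_center : ∀ y ∈ S, (∀ s ∈ S, y * s = s * y) → y ∈ zpowers x
  S_nab : ∃ s₁ ∈ S, ∃ s₂ ∈ S, s₁ * s₂ * s₁⁻¹ * s₂⁻¹ ∉ zpowers x
  S_max : ∀ R : Subgroup C, IsPGroup 5 R → R ≤ centralizer {u} → Nat.card R ≤ 5 ^ 4
  not_dvd : ¬ 5 ^ 10 ∣ Nat.card C

namespace SitC

attribute [instance] SitC.grpJ SitC.J_simple SitC.N_nor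

variable {C : Type} [Group C] [Finite C] (T : SitC C)

instance fact5 : Fact (Nat.Prime 5) := ⟨by norm_num⟩

theorem cen_of_mem {t : C} (ht : t ∈ zpowers T.x) (g : C) : g * t = t * g := by
  obtain ⟨k, rfl⟩ := ht
  exact ((show Commute g T.x from T.x_cen g).zpow_right k)

instance nX : (zpowers T.x).Normal := ⟨fun t ht g => by rw [T.cen_of_mem ht g, mul_inv_cancel_right]; exact ht⟩

theorem x_pow : T.x ^ 5 = 1 := by rw [← T.x_ord]; exact pow_orderOf_eq_one _

theorem pow_of_mem {t : C} (ht : t ∈ zpowers T.x) : t ^ 5 = 1 := by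
  obtain ⟨k, rfl⟩ := ht
  rw [← zpow_natCast, ← zpow_mul, mul_comm, zpow_mul, zpow_natCast, T.x_pow, one_zpow]

theorem eq_one_of_sq {t : C} (ht : t ∈ zpowers T.x) (h : t * t = 1) : t = 1 := by
  have h5 := T.pow_of_mem ht
  calc t = t ^ 5 * (t * t)⁻¹ * (t * t)⁻¹ := by group
    _ = 1 := by rw [h5, h]; simp

theorem card_X : Nat.card (zpowers T.x) = 5 := by rw [Nat.card_zpowers, T.x_ord]

theorem z_notin {K : Subgroup C} (hK : Odd (Nat.card K)) : T.z ∉ K := by
  intro h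
  have h2 : orderOf (⟨T.z, h⟩ : K) = 2 := by
    have : Fact (Nat.Prime 2) := ⟨Nat.prime_two⟩
    refine orderOf_eq_prime ?_ ?_
    · apply Subtype.ext
      show T.z ^ 2 = 1
      rw [pow_two, T.z_sq]
    · intro h1
      exact T.z_ne (congrArg Subtype.val h1)
  have h3 := _root_.orderOf_dvd_natCard (⟨T.z, h⟩ : K)
  rw [h2] at h3
  exact (Nat.not_even_iff_odd.2 hK) (even_iff_two_dvd.2 h3)

/-- elements of the kernel of `f` lying in a subgroup of odd order -/
theorem mem_of_ker {h : ↥(centralizer {T.z} : Subgroup C)} (hf : T.f h = 1) {K : Subgroup C}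
    (hK : Odd (Nat.card K)) (hh : (h : C) ∈ K) : (h : C) ∈ zpowers T.x := by
  obtain ⟨k, hk | hk⟩ := (T.f_ker h).1 hf
  · rw [hk]
    exact pow_mem (mem_zpowers _) k
  · exfalso
    have h1 : (h : C) ^ 5 = T.z := by
      have hc : Commute (T.x ^ k) T.z := (show Commute T.x T.z from (T.x_cen T.z).symm).pow_left k
      rw [hk, hc.mul_pow, ← pow_mul, mul_comm k 5, pow_mul, T.x_pow, one_pow, one_mul]
      calc T.z ^ 5 = (T.z * T.z) ^ 2 * T.z := by rw [← pow_two, ← pow_mul, ← pow_succ]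
        _ = T.z := by rw [T.z_sq]; simp
    exact T.z_notin hK (h1 ▸ pow_mem hh 5)

/-- (1) -/
theorem NH {n : C} (hn : n ∈ T.N) (hz : n * T.z = T.z * n) : n ∈ zpowers T.x := by
  have hJfin : Finite T.J := Finite.of_surjective _ T.f_surj
  have hmem : n ∈ (centralizer {T.z} : Subgroup C) := by
    rw [mem_centralizer_singleton_iff]
    exact hz
  have hnor : ((T.N.subgroupOf (centralizer {T.z})).map T.f).Normal := Subgroup.Normal.map inferInstance _ T.f_surj
  rcases hnor.eq_bot_or_eq_top with h | h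
  · have h1 : T.f ⟨n, hmem⟩ = 1 := by
      rw [← mem_bot, ← h]
      exact mem_map_of_mem _ (show (⟨n, hmem⟩ : ↥(centralizer {T.z} : Subgroup C)) ∈ T.N.subgroupOf _ from hn)
    exact T.mem_of_ker h1 T.N_odd hn
  · exfalso
    have h2 : 2 ∣ Nat.card T.J := by rw [T.J_card]; norm_num
    have : Fact (Nat.Prime 2) := ⟨Nat.prime_two⟩
    obtain ⟨j, hj⟩ := exists_prime_orderOf_dvd_card' 2 h2
    have hj' : j ∈ (T.N.subgroupOf (centralizer {T.z})).map T.f := by rw [h]; exact mem_top j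
    obtain ⟨m, hm, rfl⟩ := hj'
    have hm' : (m : C) ∈ T.N := hm
    have h3 : m ^ Nat.card T.N = 1 := by
      apply Subtype.ext
      show (m : C) ^ Nat.card T.N = 1
      have h4 := pow_card_eq_one' (x := (⟨m, hm'⟩ : T.N))
      exact congrArg Subtype.val h4
    have h5 : orderOf (T.f m) ∣ Nat.card T.N := by
      apply orderOf_dvd_of_pow_eq_one
      rw [← map_pow, h3, map_one]
    rw [hj] at h5
    exact (Nat.not_even_iff_odd.2 T.N_odd) (even_iff_two_dvd.2 h5)

/-- the quotient modulo `⟨x⟩` -/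
def q : C →* C ⧸ (zpowers T.x) := QuotientGroup.mk' (zpowers T.x)

theorem q_surj : Function.Surjective T.q := QuotientGroup.mk'_surjective _

theorem q_eq_one {a : C} : T.q a = 1 ↔ a ∈ zpowers T.x := by
  rw [q, ← MonoidHom.mem_ker, QuotientGroup.ker_mk']

theorem q_eq {a b : C} : T.q a = T.q b ↔ a * b⁻¹ ∈ zpowers T.x := by
  rw [← q_eq_one, map_mul, map_inv, mul_inv_eq_one]

instance nNb : (T.N.map T.q).Normal := Subgroup.Normal.map inferInstance _ T.q_surj

/-- conjugation by `z` on `N / ⟨x⟩` -/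
def phi : (T.N.map T.q) →* (T.N.map T.q) := (MulAut.conjNormal (T.q T.z) : MulAut (T.N.map T.q)).toMonoidHom

theorem phi_apply (g : T.N.map T.q) : ((T.phi g : T.N.map T.q) : C ⧸ (zpowers T.x)) = T.q T.z * g * (T.q T.z)⁻¹ := rfl

theorem phi_fpf : MonoidHom.FixedPointFree T.phi := by
  rintro ⟨_, ⟨n, hn, rfl⟩⟩ hg
  have h1 : T.q T.z * T.q n * (T.q T.z)⁻¹ = T.q n := congrArg Subtype.val hg
  rw [← map_mul, ← map_inv, ← map_mul, q_eq] at h1
  obtain ⟨t, ht⟩ : ∃ t, t = T.z * n * T.z⁻¹ * n⁻¹ := ⟨_, rfl⟩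
  rw [← ht] at h1
  have hz : T.z⁻¹ = T.z := inv_eq_of_mul_eq_one_left T.z_sq
  have h2 : T.z * n * T.z⁻¹ = t * n := by rw [ht]; group
  have h3 : n = t * t * n := by
    have hc := T.cen_of_mem h1
    calc n = T.z * T.z * n * (T.z * T.z)⁻¹ := by rw [T.z_sq]; simp
      _ = T.z * (T.z * n * T.z⁻¹) * T.z⁻¹ := by group
      _ = T.z * (t * n) * T.z⁻¹ := by rw [h2]
      _ = (T.z * t) * n * T.z⁻¹ := by group
      _ = (t * T.z) * n * T.z⁻¹ := by rw [hc]
      _ = t * (T.z * n * T.z⁻¹) := by group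
      _ = t * t * n := by rw [h2]; group
  have h4 : t = 1 := T.eq_one_of_sq h1 (by
    have := mul_right_cancel (b := n) (a := 1) (c := t * t) (by rw [one_mul]; exact h3)
    exact this.symm)
  rw [h4, one_mul] at h2
  have h5 : n * T.z = T.z * n := by
    calc n * T.z = T.z * n * T.z⁻¹ * T.z := by rw [h2]
      _ = T.z * n := by group
  have h6 := T.NH hn h5
  apply Subtype.ext
  exact T.q_eq_one.2 h6

theorem phi_inv : Function.Involutive T.phi := by
  intro g
  apply Subtype.ext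
  rw [phi_apply, phi_apply]
  have h : T.q T.z * T.q T.z = 1 := by rw [← map_mul, T.z_sq, map_one]
  calc T.q T.z * (T.q T.z * g * (T.q T.z)⁻¹) * (T.q T.z)⁻¹ = (T.q T.z * T.q T.z) * g * (T.q T.z * T.q T.z)⁻¹ := by group
    _ = g := by rw [h]; simp

/-- (2) `z` inverts `N / ⟨x⟩` -/
theorem z_inv {n : C} (hn : n ∈ T.N) : T.z * n * T.z⁻¹ * n ∈ zpowers T.x := by
  have h := congrFun (T.phi_fpf.coe_eq_inv_of_involutive T.phi_inv) ⟨T.q n, mem_map_of_mem _ hn⟩
  have h1 : T.q T.z * T.q n * (T.q T.z)⁻¹ = (T.q n)⁻¹ := congrArg Subtype.val h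
  rw [← T.q_eq_one, map_mul, map_mul, map_mul, map_inv, h1, inv_mul_cancel]

theorem N_comm {a b : C} (ha : a ∈ T.N) (hb : b ∈ T.N) : T.q a * T.q b = T.q b * T.q a := by
  have h := T.phi_fpf.commute_all_of_involutive T.phi_inv ⟨T.q a, mem_map_of_mem _ ha⟩ ⟨T.q b, mem_map_of_mem _ hb⟩
  exact congrArg Subtype.val h.eq

theorem N_nilp : Group.IsNilpotent T.N := by
  have hc : ∀ a b : T.N.map T.q, a * b = b * a := by
    rintro ⟨_, ⟨a, ha, rfl⟩⟩ ⟨_, ⟨b, hb, rfl⟩⟩
    exact Subtype.ext (T.N_comm ha hb)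
  have hn : Group.IsNilpotent (T.N.map T.q) := by
    letI : CommGroup (T.N.map T.q) := { (inferInstance : Group (T.N.map T.q)) with mul_comm := hc }
    exact CommGroup.isNilpotent
  refine Subgroup.isNilpotent_of_ker_le_center (T.q.subgroupMap T.N) ?_
  intro n hn
  have h1 : T.q (n : C) = 1 := congrArg Subtype.val hn
  rw [q_eq_one] at h1
  rw [mem_center_iff]
  intro g
  apply Subtype.ext
  exact T.cen_of_mem h1 g

/-- (3) the Sylow 5-subgroup of `N` -/
theorem exists_W : ∃ W : Subgroup C, W.Normal ∧ W ≤ T.N ∧ IsPGroup 5 W ∧ ∀ n ∈ T.N, ∀ m : ℕ, n ^ 5 ^ m = 1 → n ∈ W := by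
  obtain ⟨P⟩ : Nonempty (Sylow 5 T.N) := inferInstance
  have hnil := T.N_nilp
  have h03 : Group.IsNilpotent T.N ↔ ∀ (p : ℕ) (_hp : Fact p.Prime) (P : Sylow p T.N), (↑P : Subgroup T.N).Normal :=
    (Group.isNilpotent_of_finite_tfae (G := T.N)).out 0 3
  have hP : (P : Subgroup T.N).Normal := h03.1 hnil 5 inferInstance P
  have hch := P.characteristic_of_normal hP
  refine ⟨(P : Subgroup T.N).map T.N.subtype, inferInstance, map_subtype_le _, ?_, ?_⟩
  · exact P.isPGroup'.map _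
  · intro n hn m hm
    have hp : IsPGroup 5 (zpowers (⟨n, hn⟩ : T.N)) := by
      rintro ⟨_, ⟨k, rfl⟩⟩
      refine ⟨m, Subtype.ext ?_⟩
      show ((⟨n, hn⟩ : T.N) ^ k) ^ 5 ^ m = 1
      rw [← zpow_natCast, ← zpow_mul, mul_comm, zpow_mul, zpow_natCast]
      have : (⟨n, hn⟩ : T.N) ^ 5 ^ m = 1 := Subtype.ext hm
      rw [this, one_zpow]
    obtain ⟨Q, hQ⟩ := hp.exists_le_sylow
    have hu := P.unique_of_normal hP
    have hQP : Q = P := Subsingleton.elim _ _
    exact ⟨⟨n, hn⟩, hQP ▸ hQ (mem_zpowers _), rfl⟩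

/-! ### cardinalities -/

theorem N_sup_H : (centralizer {T.z} : Subgroup C) ⊔ T.N = ⊤ := by
  rw [eq_top_iff]
  intro g _
  obtain ⟨n, hn, h, hh, rfl⟩ := T.N_sup g
  exact mul_mem (mem_sup_right hn) (mem_sup_left (mem_centralizer_singleton_iff.2 hh))

theorem X_le_N : zpowers T.x ≤ T.N := zpowers_le.2 T.x_N

theorem X_le_H : zpowers T.x ≤ (centralizer {T.z} : Subgroup C) := by
  rw [zpowers_le, mem_centralizer_singleton_iff]
  exact (T.x_cen T.z).symm

theorem N_inf_H : T.N ⊓ (centralizer {T.z} : Subgroup C) = zpowers T.x := by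
  apply le_antisymm
  · rintro n ⟨hn, hh⟩
    exact T.NH hn (mem_centralizer_singleton_iff.1 hh)
  · exact le_inf T.X_le_N T.X_le_H

theorem card_eq (N H : Subgroup C) : Nat.card ↥(N ⊓ H) * N.relIndex H = Nat.card H := by
  have h := relIndex_mul_relIndex (⊥ : Subgroup C) (N ⊓ H) H bot_le inf_le_right
  rwa [relIndex_bot_left, relIndex_bot_left, inf_relIndex_right] at h

theorem card_H : 5 * T.N.index = Nat.card (centralizer {T.z} : Subgroup C) := by
  have h := card_eq T.N (centralizer {T.z})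
  rw [N_inf_H, card_X] at h
  have h2 := relIndex_sup_right (K := T.N) (H := (centralizer {T.z} : Subgroup C))
  rw [N_sup_H, relIndex_top_right] at h2
  rw [h2]
  exact h

theorem dvd_card_H : 125 ∣ Nat.card (centralizer {T.z} : Subgroup C) := by
  have h1 : Nat.card T.f.ker * 604800 = Nat.card (centralizer {T.z} : Subgroup C) := by
    rw [← T.J_card, ← T.f.ker.card_mul_index, index_ker, MonoidHom.range_eq_top.2 T.f_surj, card_top]
  have h2 : 5 ∣ Nat.card T.f.ker := by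
    have hx : (⟨T.x, T.X_le_H (mem_zpowers _)⟩ : ↥(centralizer {T.z} : Subgroup C)) ∈ T.f.ker := by
      rw [MonoidHom.mem_ker, T.f_ker]
      exact ⟨1, Or.inl (pow_one _).symm⟩
    have h3 := _root_.orderOf_dvd_natCard (⟨_, hx⟩ : T.f.ker)
    rw [← Subgroup.orderOf_coe, ← Subgroup.orderOf_coe] at h3
    rwa [show (((⟨(⟨T.x, T.X_le_H (mem_zpowers _)⟩ : ↥(centralizer {T.z} : Subgroup C)), hx⟩ : T.f.ker) :
      ↥(centralizer {T.z} : Subgroup C)) : C) = T.x from rfl, T.x_ord] at h3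
  rw [← h1]
  exact Nat.mul_dvd_mul h2 (by norm_num : 25 ∣ 604800)

theorem index_N : 25 ∣ T.N.index := by
  have h := T.dvd_card_H
  rw [← T.card_H] at h
  exact Nat.dvd_of_mul_dvd_mul_left (by norm_num : 0 < 5) (by simpa using h)

/-- (4) 5-subgroups of `N` have order at most `5 ^ 7` -/
theorem card_le {W : Subgroup C} (hW : W ≤ T.N) {k : ℕ} (hk : Nat.card W = 5 ^ k) : k ≤ 7 := by
  by_contra hcon
  apply T.not_dvd
  have h1 : 5 ^ 8 ∣ Nat.card T.N := (pow_dvd_pow 5 (by omega : 8 ≤ k)).trans (hk ▸ card_dvd_of_le hW)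
  rw [← T.N.card_mul_index]
  have h2 := Nat.mul_dvd_mul h1 T.index_N
  norm_num only [_root_.Subgroup.card_mul_index] at h2 ⊢
  exact h2

/-! ### the subgroup `S` -/

theorem S_pgroup : IsPGroup 5 T.S := IsPGroup.of_card T.S_card

/-- (5) -/
theorem card_S_N : 125 ≤ Nat.card ↥(T.N ⊓ T.S) := by
  obtain ⟨R, hR⟩ : ∃ R : Subgroup C, R = (centralizer {T.z} : Subgroup C) ⊓ (T.S ⊔ T.N) := ⟨_, rfl⟩
  have hRH : R ≤ (centralizer {T.z} : Subgroup C) := by rw [hR]; exact inf_le_left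
  have hRN : R ⊔ T.N = T.S ⊔ T.N := by
    apply le_antisymm
    · rw [hR]
      exact sup_le inf_le_right le_sup_right
    · intro g hg
      obtain ⟨n, hn, h, hh, rfl⟩ := T.N_sup g
      refine mul_mem (mem_sup_right hn) (mem_sup_left ?_)
      rw [hR]
      refine ⟨mem_centralizer_singleton_iff.2 hh, ?_⟩
      have := mul_mem (inv_mem (mem_sup_right (S := T.S) hn)) hg
      rwa [inv_mul_cancel_left] at this
  have hrel : T.N.relIndex R = T.N.relIndex T.S := by
    rw [← relIndex_sup_right (K := T.N) (H := R), ← relIndex_sup_right (K := T.N) (H := T.S), hRN]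
  have hXR : zpowers T.x ≤ R := by
    rw [hR]
    exact le_inf T.X_le_H (T.X_le_N.trans le_sup_right)
  have hNR : T.N ⊓ R = zpowers T.x := by
    apply le_antisymm
    · rw [← T.N_inf_H]
      exact inf_le_inf_left _ hRH
    · exact le_inf T.X_le_N hXR
  have hcR := card_eq T.N R
  rw [hNR, card_X, hrel] at hcR
  have hcS := card_eq T.N T.S
  rw [T.S_card] at hcS
  obtain ⟨j, hj4, hj⟩ : ∃ j ≤ 4, T.N.relIndex T.S = 5 ^ j := by
    have := (Nat.dvd_prime_pow (by norm_num : Nat.Prime 5)).1 (Dvd.intro_left _ hcS)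
    exact this
  rw [hj] at hcR hcS
  have hRp : IsPGroup 5 R := IsPGroup.of_card (n := j + 1) (by rw [← hcR, pow_succ]; ring)
  have hRodd : Odd (Nat.card R) := by
    rw [← hcR]
    exact Odd.mul (by decide) (Odd.pow (by decide))
  -- `j ≤ 2`
  have hj2 : j ≤ 2 := by
    have h1 := (R.subgroupOf (centralizer {T.z} : Subgroup C)).card_mul_index
    obtain ⟨g, hg⟩ : ∃ g : ↥(R.subgroupOf (centralizer {T.z} : Subgroup C)) →* T.J,
      g = T.f.comp (R.subgroupOf (centralizer {T.z} : Subgroup C)).subtype := ⟨_, rfl⟩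
    have h2 := g.ker.card_mul_index
    rw [index_ker] at h2
    have h3 : Nat.card g.ker ∣ 5 := by
      rw [← T.card_X]
      let θ : g.ker →* zpowers T.x := {
        toFun := fun a => ⟨((a : ↥(R.subgroupOf (centralizer {T.z} : Subgroup C))) :
          ↥(centralizer {T.z} : Subgroup C)), T.mem_of_ker ((DFunLike.congr_fun hg a.1).symm.trans a.2) hRodd a.1.2⟩
        map_one' := rfl
        map_mul' := fun _ _ => rfl }
      refine card_dvd_of_injective θ ?_
      intro a b hab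
      have h5 : ((θ a : zpowers T.x) : C) = (θ b : zpowers T.x) := by rw [hab]
      exact Subtype.ext (Subtype.ext (Subtype.ext h5))
    have h4 : Nat.card ↥(R.subgroupOf (centralizer {T.z} : Subgroup C)) = 5 * 5 ^ j := by
      rw [hcR]
      exact Nat.card_congr (subgroupOfEquivOfLe hRH).toEquiv
    rw [h4] at h2
    have h5 : Nat.card g.range ∣ 604800 := by
      rw [← T.J_card]
      exact card_subgroup_dvd_card _
    by_contra hcon
    have h6 : 5 ^ 3 ∣ Nat.card g.range := by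
      have h7 : 5 * 5 ^ 3 ∣ Nat.card g.ker * Nat.card g.range := by
        rw [h2]
        exact Nat.mul_dvd_mul_left 5 (pow_dvd_pow 5 (by omega))
      rcases (Nat.dvd_prime (by norm_num : Nat.Prime 5)).1 h3 with h8 | h8
      · rw [h8, one_mul] at h7
        exact (Dvd.intro_left _ rfl).trans h7
      · rw [h8] at h7
        exact Nat.dvd_of_mul_dvd_mul_left (by norm_num) h7
    have h9 := h6.trans h5
    norm_num at h9
  -- `j ≠ 2`
  have hj2' : j ≠ 2 := by
    intro hj2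
    refine T.no125 R hRH ?_ (by rw [← hcR, hj2]; norm_num)
    intro r hr
    rw [mem_centralizer_singleton_iff]
    have hr' := hr
    rw [hR] at hr'
    obtain ⟨hrz, hrs⟩ := mem_inf.1 hr'
    rw [mem_centralizer_singleton_iff] at hrz
    obtain ⟨s, hs, n, hn, rfl⟩ := mem_sup_of_normal_right.1 hrs
    have hsu := mem_centralizer_singleton_iff.1 (T.S_u hs)
    -- the commutator
    obtain ⟨t, ht⟩ : ∃ t, t = T.u * (s * n) * T.u⁻¹ * (s * n)⁻¹ := ⟨_, rfl⟩
    have h1 : t ∈ T.N := by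
      have h2 : t = s * (T.u * n * T.u⁻¹ * n⁻¹) * s⁻¹ := by
        rw [ht]
        have h3 : T.u * s = s * T.u := hsu.symm
        calc T.u * (s * n) * T.u⁻¹ * (s * n)⁻¹ = (T.u * s) * n * T.u⁻¹ * n⁻¹ * s⁻¹ := by group
          _ = (s * T.u) * n * T.u⁻¹ * n⁻¹ * s⁻¹ := by rw [h3]
          _ = s * (T.u * n * T.u⁻¹ * n⁻¹) * s⁻¹ := by group
      rw [h2]
      exact T.N_nor.conj_mem _ (mul_mem (T.N_nor.conj_mem _ hn _) (inv_mem hn)) _
    have huz : T.u ∈ (centralizer {T.z} : Subgroup C) := mem_centralizer_singleton_iff.2 T.uz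
    have hrz' : s * n ∈ (centralizer {T.z} : Subgroup C) := mem_centralizer_singleton_iff.2 hrz
    have h2 : t ∈ (centralizer {T.z} : Subgroup C) := by
      rw [ht]
      exact mul_mem (mul_mem (mul_mem huz hrz') (inv_mem huz)) (inv_mem hrz')
    have h3 : t ∈ zpowers T.x := by
      rw [← T.N_inf_H]
      exact ⟨h1, h2⟩
    have h4 : T.u * (s * n) * T.u⁻¹ = t * (s * n) := by rw [ht]; group
    have h5 : t * t = 1 := by
      have hc := T.cen_of_mem h3
      have h6 : s * n = t * t * (s * n) := by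
        calc s * n = T.u * T.u * (s * n) * (T.u * T.u)⁻¹ := by rw [T.u_sq]; simp
          _ = T.u * (T.u * (s * n) * T.u⁻¹) * T.u⁻¹ := by group
          _ = T.u * (t * (s * n)) * T.u⁻¹ := by rw [h4]
          _ = (T.u * t) * (s * n) * T.u⁻¹ := by group
          _ = (t * T.u) * (s * n) * T.u⁻¹ := by rw [hc]
          _ = t * (T.u * (s * n) * T.u⁻¹) := by group
          _ = t * t * (s * n) := by rw [h4]; group
      have := mul_right_cancel (b := s * n) (a := 1) (c := t * t) (by rw [one_mul]; exact h6)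
      exact this.symm
    rw [T.eq_one_of_sq h3 h5, one_mul] at h4
    calc s * n * T.u = T.u * (s * n) * T.u⁻¹ * T.u := by rw [h4]
      _ = T.u * (s * n) := by group
  have hj1 : j ≤ 1 := by omega
  have h1 : 5 ^ j ≤ 5 := by
    calc 5 ^ j ≤ 5 ^ 1 := Nat.pow_le_pow_right (by norm_num) hj1
      _ = 5 := by norm_num
  by_contra hcon
  have h2 : Nat.card ↥(T.N ⊓ T.S) * 5 ^ j ≤ 124 * 5 := Nat.mul_le_mul (by omega) h1
  rw [hcS] at h2
  norm_num at h2

theorem rel_dvd : T.N.relIndex T.S ∣ 5 := by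
  have hcS := card_eq T.N T.S
  rw [T.S_card] at hcS
  obtain ⟨j, hj4, hj⟩ := (Nat.dvd_prime_pow (by norm_num : Nat.Prime 5)).1 (Dvd.intro_left _ hcS)
  have h1 := T.card_S_N
  rw [hj] at hcS ⊢
  have hj1 : j ≤ 1 := by
    by_contra hcon
    have h2 : 5 ^ 2 ≤ 5 ^ j := Nat.pow_le_pow_right (by norm_num) (by omega)
    have h3 := Nat.mul_le_mul h1 h2
    rw [hcS] at h3
    norm_num at h3
  calc 5 ^ j ∣ 5 ^ 1 := pow_dvd_pow 5 hj1
    _ = 5 := by norm_num

/-! ### the kernel on `W / ⟨x⟩` -/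

/-- elements acting trivially on `W / ⟨x⟩` -/
def K0 (W : Subgroup C) : Subgroup C := (centralizer (W.map T.q : Set (C ⧸ (zpowers T.x)))).comap T.q

theorem mem_K0 {W : Subgroup C} {g : C} : g ∈ T.K0 W ↔ ∀ w ∈ W, T.q g * T.q w = T.q w * T.q g := by
  rw [K0, mem_comap, mem_centralizer_iff]
  constructor
  · intro h w hw
    exact (h _ (mem_map_of_mem _ hw)).symm
  · rintro h _ ⟨w, hw, rfl⟩
    exact (h w hw).symm

theorem K0_normal {W : Subgroup C} (hWn : W.Normal) : (T.K0 W).Normal := by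
  have h1 : (W.map T.q).Normal := Subgroup.Normal.map hWn _ T.q_surj
  have h2 : (centralizer (W.map T.q : Set (C ⧸ (zpowers T.x)))).Normal := inferInstance
  exact h2.comap _

theorem N_le_K0 {W : Subgroup C} (hWN : W ≤ T.N) : T.N ≤ T.K0 W := by
  intro n hn
  rw [mem_K0]
  intro w hw
  exact T.N_comm hn (hWN hw)

theorem eq_one_of_odd {G : Type*} [Group G] {m : ℕ} (hm : Odd m) {g : G} (h1 : g ^ m = 1) (h2 : g * g = 1) : g = 1 := by
  obtain ⟨k, rfl⟩ := hm
  rw [pow_succ, pow_mul, pow_two, h2, one_pow, one_mul] at h1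
  exact h1

theorem z_notin_K0 {W : Subgroup C} (hWN : W ≤ T.N) (hW : 125 ≤ Nat.card W) : T.z ∉ T.K0 W := by
  intro hz
  rw [mem_K0] at hz
  have h1 : W ≤ zpowers T.x := by
    intro w hw
    have h2 := hz w hw
    have h3 := T.z_inv (hWN hw)
    rw [← q_eq_one, map_mul, map_mul, map_mul, map_inv, h2, mul_inv_cancel_right] at h3
    have h4 : w ^ Nat.card T.N = 1 := by
      have h5 := pow_card_eq_one' (x := (⟨w, hWN hw⟩ : T.N))
      exact congrArg Subtype.val h5
    have h5 : T.q w ^ Nat.card T.N = 1 := by rw [← map_pow, h4, map_one]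
    exact T.q_eq_one.1 (eq_one_of_odd T.N_odd h5 h3)
  have h2 := card_le_of_le h1
  rw [card_X] at h2
  omega

/-- (6) -/
theorem K0_H {W : Subgroup C} (hWn : W.Normal) (hWN : W ≤ T.N) (hNS : T.N ⊓ T.S ≤ W) {g : C} (hg : g ∈ T.K0 W)
    (hz : g * T.z = T.z * g) : g ∈ zpowers T.x := by
  have hW : 125 ≤ Nat.card W := T.card_S_N.trans (card_le_of_le hNS)
  have hKn := T.K0_normal hWn
  have hzK := T.z_notin_K0 hWN hW
  have hxK : zpowers T.x ≤ T.K0 W := T.X_le_N.trans (T.N_le_K0 hWN)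
  have hnor : (((T.K0 W).subgroupOf (centralizer {T.z})).map T.f).Normal :=
    Subgroup.Normal.map inferInstance _ T.f_surj
  rcases hnor.eq_bot_or_eq_top with h | h
  · have hmem : g ∈ (centralizer {T.z} : Subgroup C) := mem_centralizer_singleton_iff.2 hz
    have h1 : T.f ⟨g, hmem⟩ = 1 := by
      rw [← mem_bot, ← h]
      exact mem_map_of_mem _ (show (⟨g, hmem⟩ : ↥(centralizer {T.z} : Subgroup C)) ∈ (T.K0 W).subgroupOf _ from hg)
    obtain ⟨k, hk | hk⟩ := (T.f_ker _).1 h1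
    · have hk' : g = T.x ^ k := hk
      rw [hk']
      exact pow_mem (mem_zpowers _) k
    · exfalso
      have hk' : g = T.x ^ k * T.z := hk
      apply hzK
      have h2 : T.z = (T.x ^ k)⁻¹ * g := by rw [hk']; group
      rw [h2]
      exact mul_mem (inv_mem (hxK (pow_mem (mem_zpowers _) k))) hg
  · exfalso
    -- every element of `C` is in `K0` or `K0 z`
    have h1 : ∀ c : C, c ∈ T.K0 W ∨ c * T.z ∈ T.K0 W := by
      intro c
      obtain ⟨n, hn, hh, hhz, rfl⟩ := T.N_sup c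
      have hhm : hh ∈ (centralizer {T.z} : Subgroup C) := mem_centralizer_singleton_iff.2 hhz
      have h2 : T.f ⟨hh, hhm⟩ ∈ ((T.K0 W).subgroupOf (centralizer {T.z})).map T.f := by rw [h]; exact mem_top _
      obtain ⟨k, hk, hkf⟩ := h2
      have hkK : (k : C) ∈ T.K0 W := hk
      have h3 : T.f (k⁻¹ * ⟨hh, hhm⟩) = 1 := by rw [map_mul, map_inv, hkf, inv_mul_cancel]
      have hnK := T.N_le_K0 hWN hn
      obtain ⟨i, hi | hi⟩ := (T.f_ker _).1 h3
      · left
        have hi' : (k : C)⁻¹ * hh = T.x ^ i := hi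
        refine mul_mem hnK ?_
        have h4 : hh = k * T.x ^ i := by rw [← hi']; group
        rw [h4]
        exact mul_mem hkK (hxK (pow_mem (mem_zpowers _) i))
      · right
        have hi' : (k : C)⁻¹ * hh = T.x ^ i * T.z := hi
        have h4 : hh * T.z = k * T.x ^ i := by
          calc hh * T.z = k * ((k : C)⁻¹ * hh) * T.z := by group
            _ = k * (T.x ^ i * T.z) * T.z := by rw [hi']
            _ = k * T.x ^ i * (T.z * T.z) := by group
            _ = k * T.x ^ i := by rw [T.z_sq, mul_one]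
        rw [mul_assoc, h4]
        exact mul_mem hnK (mul_mem hkK (hxK (pow_mem (mem_zpowers _) i)))
    -- `S ≤ K0`
    have h2 : T.S ≤ T.K0 W := by
      intro s hs
      have h3 : s * s ∈ T.K0 W := by
        rcases h1 s with h4 | h4
        · exact mul_mem h4 h4
        · have hz' : T.z⁻¹ = T.z := inv_eq_of_mul_eq_one_left T.z_sq
          have h5 : s * s = (s * T.z) * (T.z * (s * T.z) * T.z⁻¹) := by
            rw [hz']
            calc s * s = s * (T.z * T.z) * s * (T.z * T.z) := by rw [T.z_sq]; simp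
              _ = (s * T.z) * (T.z * (s * T.z) * T.z) := by group
          rw [h5]
          exact mul_mem h4 (hKn.conj_mem _ h4 _)
      have h4 : s ^ Nat.card T.S = 1 := by
        have h5 := pow_card_eq_one' (x := (⟨s, hs⟩ : T.S))
        exact congrArg Subtype.val h5
      rw [T.S_card] at h4
      have h5 : s = (s * s) ^ 313 := by
        have h6 : s ^ (5 ^ 4) * s = s ^ (2 * 313) := by rw [← pow_succ]; norm_num
        rw [h4, one_mul, pow_mul, pow_two] at h6
        exact h6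
      rw [h5]
      exact pow_mem h3 _
    -- `S / ⟨x⟩` is abelian
    obtain ⟨s₁, hs₁, s₂, hs₂, h3⟩ := T.S_nab
    apply h3
    rw [← q_eq_one, map_mul, map_mul, map_mul, map_inv, map_inv, mul_inv_eq_one, mul_inv_eq_iff_eq_mul]
    -- the group `Sb = S / ⟨x⟩`
    obtain ⟨r, hr⟩ : ∃ r : C ⧸ (zpowers T.x) →* C ⧸ T.N, ∀ c, r (T.q c) = QuotientGroup.mk' T.N c :=
      ⟨QuotientGroup.map (zpowers T.x) T.N (MonoidHom.id C) (by rw [comap_id]; exact T.X_le_N), fun _ => rfl⟩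
    obtain ⟨g', hg'⟩ : ∃ g' : (T.S.map T.q) →* (T.S.map (QuotientGroup.mk' T.N)), ∀ a, (g' a : C ⧸ T.N) = r a :=
      ⟨{ toFun := fun a => ⟨r a, by
          obtain ⟨_, ⟨s, hs, rfl⟩⟩ := a
          exact ⟨s, hs, (hr s).symm⟩⟩
         map_one' := Subtype.ext (map_one r)
         map_mul' := fun a b => Subtype.ext (map_mul r _ _) }, fun _ => rfl⟩
    have hcard : Nat.card (T.S.map (QuotientGroup.mk' T.N)) ∣ 5 := by
      have h4 : Nat.card (T.S.map (QuotientGroup.mk' T.N)) = T.N.relIndex T.S := by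
        rw [← relIndex_ker, QuotientGroup.ker_mk']
      rw [h4]
      exact T.rel_dvd
    have hcyc : IsCyclic (T.S.map (QuotientGroup.mk' T.N)) := by
      rcases (Nat.dvd_prime (by norm_num : Nat.Prime 5)).1 hcard with h4 | h4
      · have := (Nat.card_eq_one_iff_unique.1 h4).1
        infer_instance
      · exact isCyclic_of_prime_card h4
    have hcom := g'.isMulCommutative_of_isCyclic_of_ker_le_center (by
      rintro ⟨_, ⟨s, hs, rfl⟩⟩ ha
      have h4 : r (T.q s) = 1 := by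
        rw [← hg' ⟨_, ⟨s, hs, rfl⟩⟩]
        exact congrArg Subtype.val ha
      rw [hr, ← MonoidHom.mem_ker, QuotientGroup.ker_mk'] at h4
      rw [mem_center_iff]
      rintro ⟨_, ⟨t, ht, rfl⟩⟩
      apply Subtype.ext
      exact T.mem_K0.1 (h2 ht) s (hNS ⟨h4, hs⟩))
    exact congrArg Subtype.val (hcom.is_comm.comm (⟨T.q s₁, mem_map_of_mem _ hs₁⟩ : T.S.map T.q)
      ⟨T.q s₂, mem_map_of_mem _ hs₂⟩)

/-! ### an element of order 7 -/

theorem exists_y : ∃ y : C, y * T.z = T.z * y ∧ orderOf y = 7 := by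
  have h1 : Nat.card T.f.ker * 604800 = Nat.card (centralizer {T.z} : Subgroup C) := by
    rw [← T.J_card, ← T.f.ker.card_mul_index, index_ker, MonoidHom.range_eq_top.2 T.f_surj, card_top]
  have h2 : 7 ∣ Nat.card (centralizer {T.z} : Subgroup C) := by
    rw [← h1]
    exact Dvd.dvd.mul_left (by norm_num) _
  have : Fact (Nat.Prime 7) := ⟨by norm_num⟩
  obtain ⟨y, hy⟩ := exists_prime_orderOf_dvd_card' 7 h2
  refine ⟨y, mem_centralizer_singleton_iff.1 y.2, ?_⟩
  rw [← hy]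
  exact Subgroup.orderOf_coe y

/-- (7) -/
theorem dich {y : C} (hy : orderOf y = 7) {B : Subgroup C} (hBy : ∀ b ∈ B, y * b * y⁻¹ ∈ B) (hx : T.x ∈ B) {k : ℕ}
    (hk : Nat.card B = 5 ^ k) (hk7 : k ≤ 7) :
    (∀ b ∈ B, y * b = b * y) ∨ (k = 7 ∧ ∀ b ∈ B, y * b = b * y → b ∈ zpowers T.x) := by
  classical
  have : Fact (Nat.Prime 7) := ⟨by norm_num⟩
  obtain ⟨D, hD⟩ : ∃ D : Subgroup C, D = B ⊓ centralizer {y} := ⟨_, rfl⟩
  have hDm : ∀ b, b ∈ D ↔ b ∈ B ∧ y * b = b * y := by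
    intro b
    rw [hD, mem_inf, mem_centralizer_singleton_iff, eq_comm]
  obtain ⟨c, hck, hc⟩ : ∃ c ≤ k, Nat.card D = 5 ^ c := by
    have h1 : Nat.card D ∣ 5 ^ k := by
      rw [← hk, hD]
      exact card_dvd_of_le inf_le_left
    exact (Nat.dvd_prime_pow (by norm_num : Nat.Prime 5)).1 h1
  have hXD : zpowers T.x ≤ D := by
    rw [zpowers_le, hDm]
    exact ⟨hx, T.x_cen y⟩
  have hc1 : 1 ≤ c := by
    by_contra hcon
    have h1 := card_le_of_le hXD
    rw [card_X, hc, show c = 0 by omega] at h1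
    norm_num at h1
  -- counting
  have : Fintype B := Fintype.ofFinite B
  obtain ⟨f, hf⟩ : ∃ f : Function.End B, ∀ b : B, ((f b : B) : C) = y * b * y⁻¹ :=
    ⟨fun b => ⟨y * b * y⁻¹, hBy b b.2⟩, fun _ => rfl⟩
  have hfpow : ∀ (j : ℕ) (b : B), (((f ^ j) b : B) : C) = y ^ j * b * (y ^ j)⁻¹ := by
    intro j
    induction j with
    | zero =>
      intro b
      rw [pow_zero, pow_zero]
      show (b : C) = _
      group
    | succ j ih =>
      intro b
      rw [pow_succ]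
      show (((f ^ j) (f b) : B) : C) = _
      rw [ih, hf, pow_succ]
      group
  have hf7 : f ^ 7 ^ 1 = 1 := by
    funext b
    apply Subtype.ext
    rw [hfpow, pow_one, ← hy, pow_orderOf_eq_one]
    show _ = (b : C)
    group
  have hmod := Equiv.Perm.card_fixedPoints_modEq hf7
  have hfix : Nat.card (Function.fixedPoints f) = Nat.card D := by
    refine Nat.card_congr ⟨fun b => ⟨(b : B), ?_⟩, fun d => ⟨⟨d, ((hDm _).1 d.2).1⟩, ?_⟩, fun _ => rfl, fun _ => rfl⟩
    · rw [hDm]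
      refine ⟨(b : B).2, ?_⟩
      have h1 : f b = b := b.2
      have h2 := hf b
      rw [h1] at h2
      calc y * (b : B) = y * (b : B) * y⁻¹ * y := by group
        _ = (b : B) * y := by rw [← h2]
    · show f _ = _
      apply Subtype.ext
      rw [hf]
      show y * (d : C) * y⁻¹ = d
      rw [((hDm _).1 d.2).2, mul_inv_cancel_right]
  simp only [← Nat.card_eq_fintype_card] at hmod
  rw [hfix, hc, hk] at hmod
  have hcase : c = k ∨ (k = 7 ∧ c = 1) := by
    interval_cases k <;> interval_cases c <;> simp_all only [Nat.ModEq, _root_.Subgroup.mem_inf, _root_.and_congr_right_iff, _root_.le_inf_iff, _root_.Subgroup.zpowers_le, _root_.true_and, _root_.Subtype.forall, _root_.pow_one, _root_.Nat.card_eq_fintype_card, _root_.Fintype.card_ofFinset, _root_.Nat.one_le_ofNat, _root_.Std.le_refl, _root_.Nat.reduceMod, _root_.OfNat.one_ne_ofNat, _root_.and_true, _root_.or_false, _root_.Nat.reducePow, _root_.Nat.reduceLeDiff, _root_.Nat.reduceEqDiff,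 _root_.OfNat.ofNat_ne_one, _root_.and_self, _root_.Nat.succ_ne_self, _root_.or_true, _root_.and_false]
  rcases hcase with h | ⟨h7, h1⟩
  · left
    intro b hb
    have h2 : D = B := by
      apply eq_of_le_of_card_ge
      · rw [hD]; exact inf_le_left
      · rw [hc, hk, h]
    rw [← h2] at hb
    exact ((hDm _).1 hb).2
  · right
    refine ⟨h7, fun b hb hyb => ?_⟩
    have h2 : zpowers T.x = D := by
      apply eq_of_le_of_card_ge hXD
      rw [hc, h1, card_X]
      norm_num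
    rw [h2, hDm]
    exact ⟨hb, hyb⟩

/-! ### `W` is not abelian -/

/-- if `W` is abelian then `N` centralizes it -/
theorem N_cent {W : Subgroup C} (hWN : W ≤ T.N) (hWm : ∀ n ∈ T.N, ∀ m : ℕ, n ^ 5 ^ m = 1 → n ∈ W)
    (hab : ∀ a ∈ W, ∀ b ∈ W, a * b = b * a) {n w : C} (hn : n ∈ T.N) (hw : w ∈ W) : n * w * n⁻¹ = w := by
  obtain ⟨t, ht⟩ : ∃ t, t = n * w * n⁻¹ * w⁻¹ := ⟨_, rfl⟩
  have htX : t ∈ zpowers T.x := by
    rw [ht, ← q_eq_one, map_mul, map_mul, map_mul, map_inv, map_inv, T.N_comm hn (hWN hw), mul_inv_cancel_right,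
      mul_inv_cancel]
  have h1 : n * w * n⁻¹ = t * w := by rw [ht]; group
  have h2 : ∀ j : ℕ, n ^ j * w * (n ^ j)⁻¹ = t ^ j * w := by
    intro j
    induction j with
    | zero => simp
    | succ j ih =>
      have hc := T.cen_of_mem (pow_mem htX j) n
      calc n ^ (j + 1) * w * (n ^ (j + 1))⁻¹ = n * (n ^ j * w * (n ^ j)⁻¹) * n⁻¹ := by rw [pow_succ']; group
        _ = n * (t ^ j * w) * n⁻¹ := by rw [ih]
        _ = (n * t ^ j) * w * n⁻¹ := by group
        _ = (t ^ j * n) * w * n⁻¹ := by rw [hc]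
        _ = t ^ j * (n * w * n⁻¹) := by group
        _ = t ^ (j + 1) * w := by rw [h1, pow_succ, mul_assoc]
  have h3 : n ^ (ordCompl[5] (orderOf n)) ∈ W := by
    refine hWm _ (pow_mem hn _) ((orderOf n).factorization 5) ?_
    rw [← pow_mul, mul_comm, Nat.ordProj_mul_ordCompl_eq_self, pow_orderOf_eq_one]
  have h4 := h2 (ordCompl[5] (orderOf n))
  rw [hab _ h3 _ hw, mul_inv_cancel_right] at h4
  have h5 : t ^ (ordCompl[5] (orderOf n)) = 1 := by
    have := mul_right_cancel (b := w) (a := 1) (c := t ^ (ordCompl[5] (orderOf n))) (by rw [one_mul]; exact h4)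
    exact this.symm
  have h6 : t = 1 := by
    have h7 := T.pow_of_mem htX
    have h8 : Nat.Coprime (ordCompl[5] (orderOf n)) 5 :=
      (Nat.coprime_ordCompl (by norm_num : Nat.Prime 5) (orderOf_pos n).ne').symm
    have h9 : orderOf t ∣ Nat.gcd (ordCompl[5] (orderOf n)) 5 :=
      Nat.dvd_gcd (orderOf_dvd_of_pow_eq_one h5) (orderOf_dvd_of_pow_eq_one h7)
    rw [h8.gcd_eq_one] at h9
    exact orderOf_eq_one_iff.1 (Nat.dvd_one.1 h9)
  rw [h1, h6, one_mul]

/-- the inverted representative of a coset of `⟨x⟩` -/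
theorem exists_inv {w : C} (hw : w ∈ T.N) : ∃ s ∈ zpowers T.x, T.z * (w * s) * T.z⁻¹ = (w * s)⁻¹ := by
  obtain ⟨t, ht⟩ : ∃ t, t = T.z * w * T.z⁻¹ * w := ⟨_, rfl⟩
  have htX : t ∈ zpowers T.x := by rw [ht]; exact T.z_inv hw
  refine ⟨t ^ 2, pow_mem htX 2, ?_⟩
  have h5 := T.pow_of_mem htX
  have hc : ∀ g, g * t ^ 2 = t ^ 2 * g := T.cen_of_mem (pow_mem htX 2)
  rw [eq_inv_iff_mul_eq_one]
  calc T.z * (w * t ^ 2) * T.z⁻¹ * (w * t ^ 2) = T.z * (w * t ^ 2) * T.z⁻¹ * w * t ^ 2 := by group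
    _ = T.z * (t ^ 2 * w) * T.z⁻¹ * w * t ^ 2 := by rw [hc w]
    _ = (T.z * t ^ 2) * w * T.z⁻¹ * w * t ^ 2 := by group
    _ = (t ^ 2 * T.z) * w * T.z⁻¹ * w * t ^ 2 := by rw [hc T.z]
    _ = t ^ 2 * (T.z * w * T.z⁻¹ * w) * t ^ 2 := by group
    _ = t ^ 5 := by rw [← ht]; group
    _ = 1 := h5

/-- (8) -/
theorem W_nab {W : Subgroup C} (hWn : W.Normal) (hWN : W ≤ T.N) (hWp : IsPGroup 5 W)
    (hWm : ∀ n ∈ T.N, ∀ m : ℕ, n ^ 5 ^ m = 1 → n ∈ W) (hNS : T.N ⊓ T.S ≤ W) (hxW : T.x ∈ W) :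
    ¬ ∀ a ∈ W, ∀ b ∈ W, a * b = b * a := by
  intro hab
  have hz' : T.z⁻¹ = T.z := inv_eq_of_mul_eq_one_left T.z_sq
  let B : Subgroup C := {
    carrier := {w | w ∈ W ∧ T.z * w * T.z⁻¹ = w⁻¹ ∧ T.u * w = w * T.u}
    one_mem' := ⟨one_mem _, by simp, by simp⟩
    mul_mem' := by
      rintro a b ⟨ha, ha1, ha2⟩ ⟨hb, hb1, hb2⟩
      refine ⟨mul_mem ha hb, ?_, ?_⟩
      · calc T.z * (a * b) * T.z⁻¹ = (T.z * a * T.z⁻¹) * (T.z * b * T.z⁻¹) := by group
          _ = a⁻¹ * b⁻¹ := by rw [ha1, hb1]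
          _ = (b * a)⁻¹ := by group
          _ = (a * b)⁻¹ := by rw [hab b hb a ha]
      · rw [← mul_assoc, ha2, mul_assoc, hb2, mul_assoc]
    inv_mem' := by
      rintro a ⟨ha, ha1, ha2⟩
      refine ⟨inv_mem ha, ?_, ?_⟩
      · calc T.z * a⁻¹ * T.z⁻¹ = (T.z * a * T.z⁻¹)⁻¹ := by group
          _ = a⁻¹⁻¹ := by rw [ha1]
      · rw [mul_inv_eq_iff_eq_mul]
        calc T.u = a⁻¹ * (a * T.u) := by group
          _ = a⁻¹ * T.u * a := by rw [← ha2]; group }
  have hBm : ∀ w, w ∈ B ↔ w ∈ W ∧ T.z * w * T.z⁻¹ = w⁻¹ ∧ T.u * w = w * T.u := fun w => Iff.rfl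
  -- `B` is not trivial
  obtain ⟨b₀, hb₀, hb₀1⟩ : ∃ b ∈ B, b ≠ 1 := by
    obtain ⟨w, hw, hwX⟩ : ∃ w ∈ T.N ⊓ T.S, w ∉ zpowers T.x := by
      by_contra hcon
      push Not at hcon
      have h1 : T.N ⊓ T.S ≤ zpowers T.x := hcon
      have h2 := card_le_of_le h1
      rw [card_X] at h2
      have h3 := T.card_S_N
      omega
    obtain ⟨s, hs, hsz⟩ := T.exists_inv hw.1
    refine ⟨w * s, ⟨mul_mem (hNS hw) (zpowers_le.2 hxW hs), hsz, ?_⟩, ?_⟩
    · have h1 := mem_centralizer_singleton_iff.1 (T.S_u hw.2)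
      rw [← mul_assoc, ← h1, mul_assoc, T.cen_of_mem hs T.u, ← mul_assoc]
    · intro h1
      apply hwX
      rw [mul_eq_one_iff_eq_inv] at h1
      rw [h1]
      exact inv_mem hs
  have hBp : IsPGroup 5 B := hWp.to_le (fun w hw => hw.1)
  have hnt : Nontrivial B := ⟨⟨⟨b₀, hb₀⟩, 1, fun h => hb₀1 (congrArg Subtype.val h)⟩⟩
  -- `S` normalizes `B`
  have hconj : ∀ s ∈ T.S, ∀ b ∈ B, s * b * s⁻¹ ∈ B := by
    rintro s hs b ⟨hb, hb1, hb2⟩
    refine ⟨hWn.conj_mem b hb s, ?_, ?_⟩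
    · obtain ⟨n, hn, h, hh, hsnh⟩ := T.N_sup s
      have h1 : s * b * s⁻¹ = h * b * h⁻¹ := by
        calc s * b * s⁻¹ = n * (h * b * h⁻¹) * n⁻¹ := by rw [hsnh]; group
          _ = h * b * h⁻¹ := T.N_cent hWN hWm hab hn (hWn.conj_mem b hb h)
      rw [h1]
      have h2 : T.z * h = h * T.z := hh.symm
      have h3 : h⁻¹ * T.z⁻¹ = T.z⁻¹ * h⁻¹ := by rw [← mul_inv_rev, ← mul_inv_rev, h2]
      calc T.z * (h * b * h⁻¹) * T.z⁻¹ = (T.z * h) * b * (h⁻¹ * T.z⁻¹) := by group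
        _ = (h * T.z) * b * (T.z⁻¹ * h⁻¹) := by rw [h2, h3]
        _ = h * (T.z * b * T.z⁻¹) * h⁻¹ := by group
        _ = h * b⁻¹ * h⁻¹ := by rw [hb1]
        _ = (h * b * h⁻¹)⁻¹ := by group
    · have h1 := mem_centralizer_singleton_iff.1 (T.S_u hs)
      have h2 : s⁻¹ * T.u = T.u * s⁻¹ := by
        rw [inv_mul_eq_iff_eq_mul]
        calc T.u = T.u * s * s⁻¹ := by group
          _ = s * (T.u * s⁻¹) := by rw [← h1]; group
      calc T.u * (s * b * s⁻¹) = (T.u * s) * b * s⁻¹ := by group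
        _ = s * (T.u * b) * s⁻¹ := by rw [← h1]; group
        _ = s * b * (T.u * s⁻¹) := by rw [hb2]; group
        _ = s * b * s⁻¹ * T.u := by rw [← h2]; group
  -- a fixed point
  letI act : MulAction T.S B := {
    smul := fun s b => ⟨s * b * (s : C)⁻¹, hconj s s.2 b b.2⟩
    one_smul := fun b => Subtype.ext (by
      show ((1 : T.S) : C) * b * ((1 : T.S) : C)⁻¹ = b
      simp only [_root_.OneMemClass.coe_one, _root_.one_mul, _root_.inv_one, _root_.mul_one])
    mul_smul := fun s t b => Subtype.ext (by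
      show ((s * t : T.S) : C) * b * ((s * t : T.S) : C)⁻¹ = s * (t * b * (t : C)⁻¹) * (s : C)⁻¹
      rw [Subgroup.coe_mul]
      group) }
  have hdvd : 5 ∣ Nat.card B := by
    obtain ⟨k, hk0, hk⟩ := hBp.nontrivial_iff_card.1 hnt
    rw [hk]
    exact dvd_pow_self _ hk0.ne'
  have h1f : (1 : B) ∈ MulAction.fixedPoints T.S B := by
    intro s
    apply Subtype.ext
    show (s : C) * ((1 : B) : C) * (s : C)⁻¹ = 1
    simp only [_root_.OneMemClass.coe_one, _root_.mul_one, _root_.mul_inv_cancel]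
  obtain ⟨β, hβ, hβ1⟩ := T.S_pgroup.exists_fixed_point_of_prime_dvd_card_of_fixed_point B hdvd h1f
  have hβc : ∀ s ∈ T.S, (β : C) * s = s * β := by
    intro s hs
    have h1 : (s : C) * β * s⁻¹ = β := congrArg Subtype.val (hβ ⟨s, hs⟩)
    rw [mul_inv_eq_iff_eq_mul] at h1
    exact h1.symm
  obtain ⟨hβW, hβz, hβu⟩ := (hBm β).1 β.2
  have hβS : (β : C) ∈ T.S := by
    have hp1 : IsPGroup 5 (zpowers (β : C)) := hWp.to_le (zpowers_le.2 hβW)
    have hp2 : IsPGroup 5 ↥(zpowers (β : C) ⊔ T.S) := by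
      refine hp1.to_sup_of_normal_right' T.S_pgroup ?_
      rw [zpowers_le]
      rw [mem_normalizer_iff]
      intro s
      constructor
      · intro hs
        rw [hβc s hs, mul_inv_cancel_right]
        exact hs
      · intro hs
        have h1 := hβc _ hs
        have h2 : (β : C) * s * (β : C)⁻¹ = s := by
          calc (β : C) * s * (β : C)⁻¹ = (β : C)⁻¹ * ((β : C) * (β * s * (β : C)⁻¹)) := by group
            _ = (β : C)⁻¹ * ((β * s * (β : C)⁻¹) * β) := by rw [h1]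
            _ = s := by group
        rwa [h2] at hs
    have h3 := T.S_max (zpowers (β : C) ⊔ T.S) hp2 (by
      rw [sup_le_iff]
      refine ⟨?_, T.S_u⟩
      rw [zpowers_le, mem_centralizer_singleton_iff]
      exact hβu.symm)
    rw [← T.S_card] at h3
    have h4 : T.S = zpowers (β : C) ⊔ T.S := eq_of_le_of_card_ge le_sup_right h3
    rw [h4]
    exact mem_sup_left (mem_zpowers _)
  have hβX := T.S_center β hβS hβc
  have h5 : (β : C) * β = 1 := by
    have h6 := T.cen_of_mem hβX T.z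
    rw [h6, mul_inv_cancel_right] at hβz
    exact mul_eq_one_iff_eq_inv.2 hβz
  exact hβ1 (Subtype.ext (T.eq_one_of_sq hβX h5).symm)

end SitC

end Cfsg.Agent.H211.M5
end

-- part: H211/M5/Core
section
/-!
# S5232 (Monster, p = 5), part B: the extraspecial group `W` (helper211)

`exists_core` : the normal Sylow 5-subgroup `W` of `N` has order `5 ^ 7`, `W / ⟨x⟩` is elementary abelian, `Z(W) = ⟨x⟩`.
`exists_pi` : coordinates of `W / ⟨x⟩`.
-/

set_option autoImplicit false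
set_option linter.unusedSectionVars false
set_option linter.style.haveILetI false

namespace Cfsg.Agent.H211.M5

open Subgroup

/-- the properties of `W` -/
structure Core {C : Type} [Group C] [Finite C] (T : SitC C) (W : Subgroup C) : Prop where
  nor : W.Normal
  le_N : W ≤ T.N
  x_mem : T.x ∈ W
  card : Nat.card W = 5 ^ 7
  pow_mem : ∀ w ∈ W, w ^ 5 ∈ zpowers T.x
  center : ∀ w ∈ W, (∀ v ∈ W, w * v = v * w) → w ∈ zpowers T.x
  ker : ∀ g, g * T.z = T.z * g → (∀ w ∈ W, T.q g * T.q w = T.q w * T.q g) → g ∈ zpowers T.x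

namespace SitC

variable {C : Type} [Group C] [Finite C] (T : SitC C)

theorem exists_core : ∃ W : Subgroup C, Core T W := by
  obtain ⟨W, hWn, hWN, hWp, hWm⟩ := T.exists_W
  have hxW : T.x ∈ W := hWm _ T.x_N 1 (by rw [pow_one]; exact T.x_pow)
  have hXW : zpowers T.x ≤ W := zpowers_le.2 hxW
  have hNS : T.N ⊓ T.S ≤ W := by
    rintro s ⟨hs, hs'⟩
    obtain ⟨m, hm⟩ := T.S_pgroup ⟨s, hs'⟩
    exact hWm s hs m (congrArg Subtype.val hm)
  have hW : 125 ≤ Nat.card W := T.card_S_N.trans (card_le_of_le hNS)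
  obtain ⟨k, hk⟩ := IsPGroup.iff_card.1 hWp
  have hk7 := T.card_le hWN hk
  obtain ⟨y, hyz, hy⟩ := T.exists_y
  have hker : ∀ g, g * T.z = T.z * g → (∀ w ∈ W, T.q g * T.q w = T.q w * T.q g) → g ∈ zpowers T.x := fun g hg h =>
    T.K0_H hWn hWN hNS (T.mem_K0.2 h) hg
  -- `y` does not centralize `W`
  have hyW : ¬ ∀ b ∈ W, y * b = b * y := by
    intro h
    have h1 : y ∈ zpowers T.x := hker y hyz (fun w hw => by rw [← map_mul, h w hw, map_mul])
    have h2 := T.pow_of_mem h1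
    have h3 := orderOf_dvd_of_pow_eq_one h2
    rw [hy] at h3
    norm_num at h3
  have hyn : ∀ b ∈ W, y * b * y⁻¹ ∈ W := fun b hb => hWn.conj_mem b hb y
  obtain ⟨hk', hfix⟩ := (T.dich hy hyn hxW hk hk7).resolve_left hyW
  rw [hk'] at hk
  -- the dichotomy
  have hdich : ∀ B : Subgroup C, B ≤ W → T.x ∈ B → (∀ b ∈ B, y * b * y⁻¹ ∈ B) → B ≤ zpowers T.x ∨ B = W := by
    intro B hBW hxB hyB
    obtain ⟨l, hl7, hl⟩ : ∃ l ≤ 7, Nat.card B = 5 ^ l := by
      have h1 : Nat.card B ∣ 5 ^ 7 := by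
        rw [← hk]
        exact card_dvd_of_le hBW
      exact (Nat.dvd_prime_pow (by norm_num : Nat.Prime 5)).1 h1
    rcases T.dich hy hyB hxB hl hl7 with h | ⟨h, -⟩
    · left
      intro b hb
      exact hfix b (hBW hb) (h b hb)
    · right
      exact eq_of_le_of_card_ge hBW (by rw [hl, hk, h])
  -- exponent
  have hexp : ∀ w ∈ W, w ^ 5 ∈ zpowers T.x := by
    let B : Subgroup C := {
      carrier := {w | w ∈ W ∧ T.q w ^ 5 = 1}
      one_mem' := ⟨one_mem _, by rw [map_one, one_pow]⟩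
      mul_mem' := by
        rintro a b ⟨ha, ha5⟩ ⟨hb, hb5⟩
        refine ⟨mul_mem ha hb, ?_⟩
        have hc : Commute (T.q a) (T.q b) := T.N_comm (hWN ha) (hWN hb)
        rw [map_mul, hc.mul_pow, ha5, hb5, one_mul]
      inv_mem' := by
        rintro a ⟨ha, ha5⟩
        refine ⟨inv_mem ha, ?_⟩
        rw [map_inv, inv_pow, ha5, inv_one] }
    have hBW : B ≤ W := fun w hw => hw.1
    rcases hdich B hBW ⟨hxW, by rw [← map_pow, T.x_pow, map_one]⟩ (fun b hb => ⟨hyn b hb.1, by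
      rw [map_mul, map_mul, map_inv, conj_pow, hb.2]; simp⟩) with h | h
    · exfalso
      obtain ⟨w, hw, hwX⟩ : ∃ w ∈ W, w ∉ zpowers T.x := by
        by_contra hcon
        push Not at hcon
        have h1 : W ≤ zpowers T.x := hcon
        have h2 := card_le_of_le h1
        rw [card_X] at h2
        omega
      obtain ⟨m, hm⟩ := hWp ⟨w, hw⟩
      have hm' : w ^ 5 ^ m = 1 := congrArg Subtype.val hm
      obtain ⟨j, -, hj⟩ : ∃ j ≤ m, orderOf (T.q w) = 5 ^ j := by
        refine (Nat.dvd_prime_pow (by norm_num : Nat.Prime 5)).1 (orderOf_dvd_of_pow_eq_one ?_)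
        rw [← map_pow, hm', map_one]
      have hj0 : j ≠ 0 := by
        rintro rfl
        rw [pow_zero, orderOf_eq_one_iff, q_eq_one] at hj
        exact hwX hj
      obtain ⟨i, rfl⟩ := Nat.exists_eq_succ_of_ne_zero hj0
      have h1 : w ^ 5 ^ i ∈ B := by
        refine ⟨pow_mem hw _, ?_⟩
        rw [map_pow, ← pow_mul, ← pow_succ, ← Nat.succ_eq_add_one, ← hj, pow_orderOf_eq_one]
      have h2 := h h1
      rw [← q_eq_one, map_pow] at h2
      have h3 := orderOf_dvd_of_pow_eq_one h2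
      rw [hj] at h3
      have h4 := Nat.le_of_dvd (by positivity) h3
      have h5 : 5 ^ i < 5 ^ (i.succ) := Nat.pow_lt_pow_right (by norm_num) (Nat.lt_succ_self i)
      omega
    · intro w hw
      rw [← h] at hw
      rw [← q_eq_one, map_pow]
      exact hw.2
  -- the centre
  have hcen : ∀ w ∈ W, (∀ v ∈ W, w * v = v * w) → w ∈ zpowers T.x := by
    let B : Subgroup C := {
      carrier := {w | w ∈ W ∧ ∀ v ∈ W, w * v = v * w}
      one_mem' := ⟨one_mem _, fun v _ => by simp⟩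
      mul_mem' := by
        rintro a b ⟨ha, ha5⟩ ⟨hb, hb5⟩
        refine ⟨mul_mem ha hb, fun v hv => ?_⟩
        rw [mul_assoc, hb5 v hv, ← mul_assoc, ha5 v hv, mul_assoc]
      inv_mem' := by
        rintro a ⟨ha, ha5⟩
        refine ⟨inv_mem ha, fun v hv => ?_⟩
        rw [inv_mul_eq_iff_eq_mul, ← mul_assoc, ha5 v hv, mul_inv_cancel_right] }
    have hBW : B ≤ W := fun w hw => hw.1
    rcases hdich B hBW ⟨hxW, fun v _ => (T.x_cen v).symm⟩ (fun b hb => ⟨hyn b hb.1, fun v hv => by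
      have h1 : y⁻¹ * v * y ∈ W := by
        have := hWn.conj_mem v hv y⁻¹
        rwa [inv_inv] at this
      calc y * b * y⁻¹ * v = y * (b * (y⁻¹ * v * y)) * y⁻¹ := by group
        _ = y * ((y⁻¹ * v * y) * b) * y⁻¹ := by rw [hb.2 _ h1]
        _ = v * (y * b * y⁻¹) := by group⟩) with h | h
    · intro w hw hwc
      exact h ⟨hw, hwc⟩
    · exfalso
      refine T.W_nab hWn hWN hWp hWm hNS hxW fun a ha b hb => ?_
      rw [← h] at ha
      exact ha.2 b hb
  exact ⟨W, hWn, hWN, hxW, hk, hexp, hcen, hker⟩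

end SitC

end Cfsg.Agent.H211.M5
end

-- part: H211/M5/Coord
section
/-!
# S5232 (Monster, p = 5), part B: coordinates (helper211)
-/

set_option autoImplicit false
set_option linter.unusedSectionVars false
set_option linter.style.haveILetI false

namespace Cfsg.Agent.H211.M5

open Subgroup
open Cfsg.Agent.H777.M5

theorem exists_equiv_V6 {A : Type*} [Group A] [Finite A] (hc : ∀ a b : A, a * b = b * a) (h5 : ∀ a : A, a ^ 5 = 1)
    (hcard : Nat.card A = 5 ^ 6) : Nonempty (A ≃* Multiplicative V6) := by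
  letI : CommGroup A := { (inferInstance : Group A) with mul_comm := hc }
  letI : Module (ZMod 5) (Additive A) := AddCommGroup.zmodModule (by
    intro a
    exact h5 a.toMul)
  have : Fact (Nat.Prime 5) := ⟨by norm_num⟩
  have hfin : Module.Finite (ZMod 5) (Additive A) := Module.Finite.of_finite
  have h1 := Module.natCard_eq_pow_finrank (K := ZMod 5) (V := Additive A)
  have h2 : Nat.card (Additive A) = 5 ^ 6 := hcard
  rw [h2, Nat.card_zmod] at h1
  have h3 : Module.finrank (ZMod 5) (Additive A) = 6 := (Nat.pow_right_injective (le_refl _ |>.trans (by norm_num : 2 ≤ 5)) h1).symm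
  have h4 : Module.finrank (ZMod 5) (Additive A) = Module.finrank (ZMod 5) V6 := by
    rw [h3, Module.finrank_fintype_fun_eq_card, Fintype.card_fin]
  let L := LinearEquiv.ofFinrankEq (Additive A) V6 h4
  exact ⟨{
    toFun := fun a => Multiplicative.ofAdd (L (Additive.ofMul a))
    invFun := fun v => (L.symm v.toAdd).toMul
    left_inv := fun a => by simp
    right_inv := fun v => by simp
    map_mul' := fun a b => by
      rw [ofMul_mul, map_add, ofAdd_add] }⟩

namespace SitC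

variable {C : Type} [Group C] [Finite C] (T : SitC C)

theorem exists_p {W : Subgroup C} (hW : Core T W) : ∃ p : C → V6, (∀ a ∈ W, ∀ b ∈ W, p (a * b) = p a + p b) ∧
    (∀ a ∈ W, p a = 0 ↔ a ∈ zpowers T.x) ∧ (∀ v, ∃ a ∈ W, p a = v) := by
  classical
  have hXW : zpowers T.x ≤ W := zpowers_le.2 hW.x_mem
  obtain ⟨e⟩ : Nonempty ((W.map T.q) ≃* Multiplicative V6) := by
    apply exists_equiv_V6
    · rintro ⟨_, ⟨a, ha, rfl⟩⟩ ⟨_, ⟨b, hb, rfl⟩⟩
      exact Subtype.ext (T.N_comm (hW.le_N ha) (hW.le_N hb))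
    · rintro ⟨_, ⟨a, ha, rfl⟩⟩
      apply Subtype.ext
      show T.q a ^ 5 = 1
      rw [← map_pow, q_eq_one]
      exact hW.pow_mem a ha
    · have h1 : T.q.ker = zpowers T.x := QuotientGroup.ker_mk' _
      have h2 := relIndex_ker (f := T.q) (K := W)
      have h3 := card_eq (zpowers T.x) W
      rw [inf_eq_left.2 hXW, card_X, ← h1, h2, hW.card] at h3
      have h4 : 5 * Nat.card (W.map T.q) = 5 * 5 ^ 6 := by rw [h3]; norm_num
      exact Nat.eq_of_mul_eq_mul_left (by norm_num) h4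
  refine ⟨fun a => if h : a ∈ W then (e ⟨T.q a, mem_map_of_mem _ h⟩).toAdd else 0, ?_, ?_, ?_⟩
  · intro a ha b hb
    simp only [dif_pos ha, dif_pos hb, dif_pos (mul_mem ha hb)]
    rw [← toAdd_mul, ← map_mul]
    congr 2
  · intro a ha
    simp only [dif_pos ha]
    rw [← toAdd_one, Multiplicative.toAdd.injective.eq_iff, MulEquiv.map_eq_one_iff, ← T.q_eq_one]
    constructor
    · intro h
      exact congrArg Subtype.val h
    · intro h
      exact Subtype.ext h
  · intro v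
    obtain ⟨⟨_, ⟨a, ha, rfl⟩⟩, hA⟩ := e.surjective (Multiplicative.ofAdd v)
    refine ⟨a, ha, ?_⟩
    have ha' : a ∈ W := ha
    simp only [dif_pos ha']
    rw [hA, toAdd_ofAdd]

/-! ### powers of `x` -/

/-- `x ^ k` for `k : ZMod 5` -/
def pw (k : ZMod 5) : C := T.x ^ k.val

theorem pw_mem (k : ZMod 5) : T.pw k ∈ zpowers T.x := pow_mem (mem_zpowers _) _

theorem pw_zero : T.pw 0 = 1 := by rw [pw, ZMod.val_zero, pow_zero]

theorem pw_add (a b : ZMod 5) : T.pw (a + b) = T.pw a * T.pw b := by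
  rw [pw, pw, pw, ZMod.val_add, ← pow_add]
  conv_rhs => rw [← Nat.div_add_mod (a.val + b.val) 5, pow_add, pow_mul, T.x_pow, one_pow, one_mul]

theorem pw_inj {a b : ZMod 5} (h : T.pw a = T.pw b) : a = b := by
  have h1 := (pow_inj_mod (x := T.x) (n := a.val) (m := b.val)).1 h
  rw [T.x_ord, Nat.mod_eq_of_lt a.val_lt, Nat.mod_eq_of_lt b.val_lt] at h1
  exact ZMod.val_injective 5 h1

theorem exists_pw {t : C} (ht : t ∈ zpowers T.x) : ∃ k, t = T.pw k := by
  classical
  rw [mem_zpowers_iff_mem_range_orderOf, T.x_ord] at ht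
  obtain ⟨k, hk, rfl⟩ := Finset.mem_image.1 ht
  refine ⟨(k : ZMod 5), ?_⟩
  rw [pw, ZMod.val_natCast, Nat.mod_eq_of_lt (Finset.mem_range.1 hk)]

theorem pw_neg (a : ZMod 5) : T.pw (-a) = (T.pw a)⁻¹ := by
  rw [eq_inv_iff_mul_eq_one, ← pw_add, neg_add_cancel, pw_zero]

end SitC

/-- coordinates, in `C` -/
structure WC {C : Type} [Group C] (T : SitC C) where
  w : V6 → C
  om' : V6 → V6 → ZMod 5
  add_left : ∀ u u' v, om' (u + u') v = om' u v + om' u' v
  add_right : ∀ u v v', om' u (v + v') = om' u v + om' u v'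
  alt : ∀ v, om' v v = 0
  nondeg : ∀ u, (∀ v, om' u v = 0) → u = 0
  w_mul : ∀ u v, w u * w v = w (u + v) * T.x ^ (3 * om' u v).val
  w_z : ∀ v, T.z * w v * T.z⁻¹ = w (-v)
  w_ne : ∀ v, w v ∈ zpowers T.x → v = 0
  w_N : ∀ v, w v ∈ T.N
  rho : C → (V6 ≃ₗ[ZMod 5] V6)
  rho_w : ∀ h, h * T.z = T.z * h → ∀ v, h * w v * h⁻¹ = w (rho h v)
  rho_om : ∀ h, h * T.z = T.z * h → ∀ u v, om' (rho h u) (rho h v) = om' u v
  rho_ker : ∀ h, h * T.z = T.z * h → (∀ v, rho h v = v) → h ∈ zpowers T.x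
  w_nor : ∀ g v, ∃ (v' : V6) (c : ℕ), g * w v * g⁻¹ = w v' * T.x ^ c

theorem exists_wc {C : Type} [Group C] [Finite C] (T : SitC C) : Nonempty (WC T) := by
  classical
  obtain ⟨W, hW⟩ := T.exists_core
  obtain ⟨p, hpm, hp0, hps⟩ := T.exists_p hW
  have hWn := hW.nor
  have hXW : zpowers T.x ≤ W := zpowers_le.2 hW.x_mem
  have hz' : T.z⁻¹ = T.z := inv_eq_of_mul_eq_one_left T.z_sq
  have hpX : ∀ t ∈ zpowers T.x, p t = 0 := fun t ht => (hp0 t (hXW ht)).2 ht
  have hp1 : p 1 = 0 := hpX 1 (one_mem _)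
  have hpi : ∀ a ∈ W, p a⁻¹ = -p a := by
    intro a ha
    rw [eq_neg_iff_add_eq_zero, ← hpm _ (inv_mem ha) _ ha, inv_mul_cancel, hp1]
  -- the representatives
  have hex : ∀ v, ∃ a ∈ W, p a = v ∧ T.z * a * T.z⁻¹ = a⁻¹ := by
    intro v
    obtain ⟨a, ha, hav⟩ := hps v
    obtain ⟨s, hs, hsz⟩ := T.exists_inv (hW.le_N ha)
    exact ⟨a * s, mul_mem ha (hXW hs), by rw [hpm a ha s (hXW hs), hpX s hs, add_zero, hav], hsz⟩
  choose w hwW hwp hwz using hex
  have huniq : ∀ a ∈ W, ∀ b ∈ W, p a = p b → T.z * a * T.z⁻¹ = a⁻¹ → T.z * b * T.z⁻¹ = b⁻¹ → a = b := by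
    intro a ha b hb hab haz hbz
    obtain ⟨t, ht⟩ : ∃ t, t = a⁻¹ * b := ⟨_, rfl⟩
    have htX : t ∈ zpowers T.x := by
      rw [← hp0 t (by rw [ht]; exact mul_mem (inv_mem ha) hb), ht, hpm _ (inv_mem ha) _ hb, hpi a ha, hab,
        neg_add_cancel]
    have hbt : b = a * t := by rw [ht]; group
    have h1 : t * t = 1 := by
      have hc := T.cen_of_mem htX
      rw [hbt] at hbz
      have h2 : T.z * (a * t) * T.z⁻¹ = a⁻¹ * t := by
        rw [← haz]
        calc T.z * (a * t) * T.z⁻¹ = T.z * a * (T.z⁻¹ * T.z) * t * T.z⁻¹ := by group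
          _ = T.z * a * T.z⁻¹ * (T.z * t) * T.z⁻¹ := by group
          _ = T.z * a * T.z⁻¹ * (t * T.z) * T.z⁻¹ := by rw [hc]
          _ = T.z * a * T.z⁻¹ * t := by group
      rw [h2, mul_inv_rev, hc a⁻¹] at hbz
      exact mul_eq_one_iff_eq_inv.2 (mul_right_cancel hbz)
    rw [hbt, T.eq_one_of_sq htX h1, mul_one]
  -- elements of `W` are `w(v) t`
  have hdec : ∀ a ∈ W, ∃ t ∈ zpowers T.x, a = w (p a) * t := by
    intro a ha
    refine ⟨(w (p a))⁻¹ * a, ?_, by group⟩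
    rw [← hp0 _ (mul_mem (inv_mem (hwW _)) ha), hpm _ (inv_mem (hwW _)) _ ha, hpi _ (hwW _), hwp, neg_add_cancel]
  -- commutators
  have hcomX : ∀ a ∈ W, ∀ b ∈ W, a * b * a⁻¹ * b⁻¹ ∈ zpowers T.x := by
    intro a ha b hb
    rw [← T.q_eq_one, map_mul, map_mul, map_mul, map_inv, map_inv, T.N_comm (hW.le_N ha) (hW.le_N hb),
      mul_inv_cancel_right, mul_inv_cancel]
  have hcommul : ∀ a ∈ W, ∀ a' ∈ W, ∀ b ∈ W,
      (a * a') * b * (a * a')⁻¹ * b⁻¹ = (a * b * a⁻¹ * b⁻¹) * (a' * b * a'⁻¹ * b⁻¹) := by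
    intro a ha a' ha' b hb
    have hc := T.cen_of_mem (hcomX a' ha' b hb)
    calc (a * a') * b * (a * a')⁻¹ * b⁻¹ = a * (a' * b * a'⁻¹ * b⁻¹) * b * a⁻¹ * b⁻¹ := by group
      _ = (a' * b * a'⁻¹ * b⁻¹) * a * b * a⁻¹ * b⁻¹ := by rw [hc a]
      _ = (a' * b * a'⁻¹ * b⁻¹) * (a * b * a⁻¹ * b⁻¹) := by group
      _ = (a * b * a⁻¹ * b⁻¹) * (a' * b * a'⁻¹ * b⁻¹) := (hc _).symm
  have hcomt : ∀ a ∈ W, ∀ t ∈ zpowers T.x, ∀ b ∈ W, (a * t) * b * (a * t)⁻¹ * b⁻¹ = a * b * a⁻¹ * b⁻¹ := by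
    intro a ha t ht b hb
    rw [hcommul a ha t (hXW ht) b hb, ← T.cen_of_mem ht b]
    group
  have hom : ∀ u v, ∃ k, w u * w v * (w u)⁻¹ * (w v)⁻¹ = T.pw k := fun u v =>
    T.exists_pw (hcomX _ (hwW u) _ (hwW v))
  choose om' hom' using hom
  have hanti : ∀ u v, om' v u = -om' u v := by
    intro u v
    apply T.pw_inj
    rw [T.pw_neg, ← hom', ← hom']
    group
  -- products
  have hprod : ∀ u v, ∃ k, w u * w v = w (u + v) * T.pw k := by
    intro u v
    obtain ⟨t, ht, hut⟩ := hdec (w u * w v) (mul_mem (hwW u) (hwW v))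
    rw [hpm _ (hwW u) _ (hwW v), hwp, hwp] at hut
    obtain ⟨k, rfl⟩ := T.exists_pw ht
    exact ⟨k, hut⟩
  have hadd : ∀ u u' v, om' (u + u') v = om' u v + om' u' v := by
    intro u u' v
    obtain ⟨k, hk⟩ := hprod u u'
    apply T.pw_inj
    rw [T.pw_add, ← hom', ← hom', ← hom', ← hcommul _ (hwW u) _ (hwW u') _ (hwW v), hk,
      hcomt _ (hwW _) _ (T.pw_mem k) _ (hwW v)]
  have halt : ∀ v, om' v v = 0 := by
    intro v
    apply T.pw_inj
    rw [← hom', T.pw_zero]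
    group
  have hmul : ∀ u v, w u * w v = w (u + v) * T.x ^ (3 * om' u v).val := by
    intro u v
    obtain ⟨k, hk⟩ := hprod u v
    have h1 : om' u v = 2 * k := by
      apply T.pw_inj
      rw [← hom', two_mul, T.pw_add]
      have hc := T.cen_of_mem (T.pw_mem k)
      -- conjugate by `z`
      have h2 : (w u)⁻¹ * (w v)⁻¹ = (w (u + v))⁻¹ * T.pw k := by
        calc (w u)⁻¹ * (w v)⁻¹ = (T.z * w u * T.z⁻¹) * (T.z * w v * T.z⁻¹) := by rw [hwz, hwz]
          _ = T.z * (w u * w v) * T.z⁻¹ := by group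
          _ = T.z * (w (u + v) * T.pw k) * T.z⁻¹ := by rw [hk]
          _ = T.z * w (u + v) * (T.pw k * T.z⁻¹) := by group
          _ = T.z * w (u + v) * (T.z⁻¹ * T.pw k) := by rw [hc]
          _ = (T.z * w (u + v) * T.z⁻¹) * T.pw k := by group
          _ = (w (u + v))⁻¹ * T.pw k := by rw [hwz]
      calc w u * w v * (w u)⁻¹ * (w v)⁻¹ = (w u * w v) * ((w u)⁻¹ * (w v)⁻¹) := by group
        _ = (w (u + v) * T.pw k) * ((w (u + v))⁻¹ * T.pw k) := by rw [hk, h2]
        _ = w (u + v) * (T.pw k * (w (u + v))⁻¹) * T.pw k := by group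
        _ = w (u + v) * ((w (u + v))⁻¹ * T.pw k) * T.pw k := by rw [hc (w (u + v))⁻¹]
        _ = T.pw k * T.pw k := by group
    have h3 : 3 * om' u v = k := by
      rw [h1, ← mul_assoc, show (3 * 2 : ZMod 5) = 1 by decide, one_mul]
    rw [h3, hk]
    rfl
  -- the action
  have hcj : ∀ h, h * T.z = T.z * h → ∀ a, T.z * a * T.z⁻¹ = a⁻¹ → T.z * (h * a * h⁻¹) * T.z⁻¹ = (h * a * h⁻¹)⁻¹ := by
    intro h hh a ha
    have h3 : h⁻¹ * T.z⁻¹ = T.z⁻¹ * h⁻¹ := by rw [← mul_inv_rev, ← mul_inv_rev, hh]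
    calc T.z * (h * a * h⁻¹) * T.z⁻¹ = (T.z * h) * a * (h⁻¹ * T.z⁻¹) := by group
      _ = (h * T.z) * a * (T.z⁻¹ * h⁻¹) := by rw [← hh, h3]
      _ = h * (T.z * a * T.z⁻¹) * h⁻¹ := by group
      _ = h * a⁻¹ * h⁻¹ := by rw [ha]
      _ = (h * a * h⁻¹)⁻¹ := by group
  have hrho : ∀ h, ∃ L : V6 ≃ₗ[ZMod 5] V6, h * T.z = T.z * h → ∀ v, h * w v * h⁻¹ = w (L v) := by
    intro h
    by_cases hh : h * T.z = T.z * h
    · have hmem : ∀ v, h * w v * h⁻¹ ∈ W := fun v => hWn.conj_mem _ (hwW v) h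
      let f : V6 →+ V6 := {
        toFun := fun v => p (h * w v * h⁻¹)
        map_zero' := by
          have h1 : w 0 = 1 := huniq _ (hwW 0) _ (one_mem _) (by rw [hwp, hp1]) (hwz 0) (by simp)
          rw [h1, mul_one, mul_inv_cancel, hp1]
        map_add' := by
          intro u v
          obtain ⟨k, hk⟩ := hprod u v
          have h1 : h * w u * h⁻¹ * (h * w v * h⁻¹) = h * w (u + v) * h⁻¹ * T.pw k := by
            calc h * w u * h⁻¹ * (h * w v * h⁻¹) = h * (w u * w v) * h⁻¹ := by group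
              _ = h * (w (u + v) * T.pw k) * h⁻¹ := by rw [hk]
              _ = h * w (u + v) * (T.pw k * h⁻¹) := by group
              _ = h * w (u + v) * (h⁻¹ * T.pw k) := by rw [T.cen_of_mem (T.pw_mem k)]
              _ = h * w (u + v) * h⁻¹ * T.pw k := by group
          have h2 := congrArg p h1
          rw [hpm _ (hmem u) _ (hmem v), hpm _ (hmem _) _ (hXW (T.pw_mem k)), hpX _ (T.pw_mem k), add_zero] at h2
          exact h2.symm }
      have hinj : Function.Injective (f.toZModLinearMap 5) := by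
        rw [injective_iff_map_eq_zero]
        intro v hv
        have h1 : p (h * w v * h⁻¹) = 0 := hv
        rw [hp0 _ (hmem v)] at h1
        have h2 := T.cen_of_mem h1 h⁻¹
        have h3 : w v = h * w v * h⁻¹ := by
          calc w v = h⁻¹ * (h * w v * h⁻¹) * h := by group
            _ = (h * w v * h⁻¹) * h⁻¹ * h := by rw [h2]
            _ = h * w v * h⁻¹ := by group
        rw [← h3, ← hp0 _ (hwW v), hwp] at h1
        exact h1
      refine ⟨LinearEquiv.ofInjectiveEndo (f.toZModLinearMap 5) hinj, fun _ v => ?_⟩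
      refine huniq _ (hmem v) _ (hwW _) ?_ (hcj h hh _ (hwz v)) (hwz _)
      rw [hwp]
      rfl
    · exact ⟨LinearEquiv.refl _ _, fun h1 => absurd h1 hh⟩
  choose rho hrho' using hrho
  refine ⟨{
    w := w
    om' := om'
    add_left := hadd
    add_right := fun u v v' => by
      rw [hanti (v + v') u, hadd, hanti v u, hanti v' u, neg_add]
    alt := halt
    nondeg := ?_
    w_mul := hmul
    w_z := ?_
    w_ne := ?_
    w_N := fun v => hW.le_N (hwW v)
    rho := rho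
    rho_w := fun h hh v => hrho' h hh v
    rho_om := ?_
    rho_ker := ?_
    w_nor := fun g v => by
      obtain ⟨t, ht, h1⟩ := hdec (g * w v * g⁻¹) (hWn.conj_mem _ (hwW v) g)
      obtain ⟨k, rfl⟩ := T.exists_pw ht
      exact ⟨_, k.val, h1⟩ }⟩
  · intro u hu
    have h1 : w u ∈ zpowers T.x := by
      refine hW.center _ (hwW u) fun a ha => ?_
      obtain ⟨t, ht, hat⟩ := hdec a ha
      have h2 := hom' u (p a)
      rw [hu, T.pw_zero, mul_inv_eq_one, mul_inv_eq_iff_eq_mul] at h2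
      rw [hat, ← mul_assoc, h2, mul_assoc, T.cen_of_mem ht (w u), ← mul_assoc]
    rw [← hp0 _ (hwW u), hwp] at h1
    exact h1
  · intro v
    rw [hwz]
    refine huniq _ (inv_mem (hwW v)) _ (hwW _) (by rw [hpi _ (hwW v), hwp, hwp]) ?_ (hwz _)
    calc T.z * (w v)⁻¹ * T.z⁻¹ = (T.z * w v * T.z⁻¹)⁻¹ := by group
      _ = (w v)⁻¹⁻¹ := by rw [hwz]
  · intro v hv
    rwa [← hp0 _ (hwW v), hwp] at hv
  · intro h hh u v
    apply T.pw_inj
    rw [← hom', ← hrho' h hh u, ← hrho' h hh v, ← hom']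
    have hc := T.cen_of_mem (hcomX _ (hwW u) _ (hwW v)) h
    calc h * w u * h⁻¹ * (h * w v * h⁻¹) * (h * w u * h⁻¹)⁻¹ * (h * w v * h⁻¹)⁻¹ =
        h * (w u * w v * (w u)⁻¹ * (w v)⁻¹) * h⁻¹ := by group
      _ = w u * w v * (w u)⁻¹ * (w v)⁻¹ := by rw [hc, mul_inv_cancel_right]
  · intro h hh hv
    refine hW.ker h hh fun a ha => ?_
    obtain ⟨t, ht, hat⟩ := hdec a ha
    have h1 := hrho' h hh (p a)
    rw [hv, mul_inv_eq_iff_eq_mul] at h1
    have h2 : T.q t = 1 := T.q_eq_one.2 ht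
    rw [hat, map_mul, h2, mul_one, ← map_mul, h1, map_mul]


/-- `C(x)` -/
def toC {G : Type} [Group G] (S : Sit G) : SitC ↥(centralizer {S.x}) :=
  letI := S.grpJ
  { x := ⟨S.x, mem_centralizer_singleton_iff.2 rfl⟩
    z := ⟨S.z, mem_centralizer_singleton_iff.2 S.xz.symm⟩
    u := ⟨S.u, mem_centralizer_singleton_iff.2 S.xu.symm⟩
    x_ord := by
      rw [← S.x_ord]
      exact (Subgroup.orderOf_coe (⟨S.x, mem_centralizer_singleton_iff.2 rfl⟩ : ↥(centralizer {S.x}))).symm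
    x_cen := fun g => Subtype.ext (mem_centralizer_singleton_iff.1 g.2)
    z_sq := Subtype.ext S.z_sq
    z_ne := fun h => S.z_ne (congrArg Subtype.val h)
    u_sq := Subtype.ext S.u_sq
    uz := Subtype.ext S.uz
    N := S.N.subgroupOf (centralizer {S.x})
    N_nor := ⟨fun n hn g => S.N_conj g g.2 n hn⟩
    N_odd := by
      have h : Nat.card ↥(S.N.subgroupOf (centralizer {S.x})) = Nat.card S.N :=
        Nat.card_congr (subgroupOfEquivOfLe S.N_le).toEquiv
      rw [h]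
      exact S.N_odd
    x_N := S.x_N
    N_sup := fun g => by
      obtain ⟨n, hn, h, hx, hz, hg⟩ := S.N_sup g g.2
      exact ⟨⟨n, S.N_le hn⟩, hn, ⟨h, mem_centralizer_singleton_iff.2 hx⟩, Subtype.ext hz, Subtype.ext hg⟩
    J := S.J
    J_simple := S.J_simple
    J_card := S.J_card
    f := S.f.comp {
      toFun := fun h => ⟨((h : ↥(centralizer {S.x})) : G), (h : ↥(centralizer {S.x})).2, by
        have := mem_centralizer_singleton_iff.1 h.2
        exact mem_centralizer_singleton_iff.2 (congrArg Subtype.val this)⟩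
      map_one' := rfl
      map_mul' := fun _ _ => rfl }
    f_surj := by
      intro j
      obtain ⟨⟨h, hx, hz⟩, hj⟩ := S.f_surj j
      exact ⟨⟨⟨h, hx⟩, mem_centralizer_singleton_iff.2 (Subtype.ext (mem_centralizer_singleton_iff.1 hz))⟩, hj⟩
    f_ker := fun h => by
      refine (S.f_ker _).trans ?_
      constructor
      · rintro ⟨k, hk | hk⟩
        · exact ⟨k, Or.inl (Subtype.ext hk)⟩
        · exact ⟨k, Or.inr (Subtype.ext hk)⟩
      · rintro ⟨k, hk | hk⟩
        · exact ⟨k, Or.inl (congrArg Subtype.val hk)⟩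
        · exact ⟨k, Or.inr (congrArg Subtype.val hk)⟩
    no125 := fun R hRz hRu => by
      have h1 := S.no125 (R.map (centralizer {S.x}).subtype) (map_subtype_le _) (by
        rintro _ ⟨r, hr, rfl⟩
        exact mem_centralizer_singleton_iff.2 (congrArg Subtype.val (mem_centralizer_singleton_iff.1 (hRz hr)))) (by
        rintro _ ⟨r, hr, rfl⟩
        exact mem_centralizer_singleton_iff.2 (congrArg Subtype.val (mem_centralizer_singleton_iff.1 (hRu hr))))
      rwa [card_map_of_injective (subtype_injective _)] at h1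
    S := S.S.subgroupOf (centralizer {S.x})
    S_u := fun s hs => mem_centralizer_singleton_iff.2 (Subtype.ext (mem_centralizer_singleton_iff.1 (S.S_u hs)))
    S_card := by
      rw [← S.S_card]
      exact Nat.card_congr (subgroupOfEquivOfLe S.S_x).toEquiv
    S_center := fun y hy h => by
      obtain ⟨k, hk⟩ := S.S_center y hy (fun s hs => congrArg Subtype.val (h ⟨s, S.S_x hs⟩ hs))
      exact ⟨k, Subtype.ext (by
        rw [← hk]
        rfl)⟩
    S_nab := by
      obtain ⟨s₁, h₁, s₂, h₂, h⟩ := S.S_nab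
      refine ⟨⟨s₁, S.S_x h₁⟩, h₁, ⟨s₂, S.S_x h₂⟩, h₂, fun hc => h ?_⟩
      obtain ⟨k, hk⟩ := hc
      exact ⟨k, congrArg Subtype.val hk⟩
    S_max := fun R hR hRu => by
      have h1 := S.S_max (R.map (centralizer {S.x}).subtype) (hR.map _) (map_subtype_le _) (by
        rintro _ ⟨r, hr, rfl⟩
        exact mem_centralizer_singleton_iff.2 (congrArg Subtype.val (mem_centralizer_singleton_iff.1 (hRu hr))))
      rwa [card_map_of_injective (subtype_injective _)] at h1
    not_dvd := fun h => S.not_dvd (h.trans (card_subgroup_dvd_card _)) }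

/-- **Part B**, with the normality of `W`. -/
theorem exists_wout2 {G : Type} [Group G] [Finite G] (S : Sit G) : ∃ W : WOut S, ∀ g, g * S.x = S.x * g →
    ∀ v, ∃ (v' : V6) (c : ℕ), g * W.w v * g⁻¹ = W.w v' * S.x ^ c := by
  classical
  obtain ⟨D⟩ := exists_wc (toC S)
  have hmem : ∀ {h : G}, h * S.x = S.x * h → h ∈ (centralizer {S.x} : Subgroup G) :=
    fun h => mem_centralizer_singleton_iff.2 h
  have hval : ∀ v, (D.w v : G) ∈ zpowers S.x → D.w v ∈ zpowers (toC S).x := by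
    rintro v ⟨k, hk⟩
    exact ⟨k, Subtype.ext hk⟩
  refine ⟨{
    w := fun v => D.w v
    om' := D.om'
    add_left := D.add_left
    add_right := D.add_right
    alt := D.alt
    nondeg := D.nondeg
    w_mul := fun u v => congrArg Subtype.val (D.w_mul u v)
    w_x := fun v => mem_centralizer_singleton_iff.1 (D.w v).2
    w_z := fun v => congrArg Subtype.val (D.w_z v)
    w_ne := fun v hv => D.w_ne v (hval v hv)
    w_N := fun v => D.w_N v
    rho := fun h => if hh : h * S.x = S.x * h then D.rho ⟨h, hmem hh⟩ else LinearEquiv.refl _ _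
    rho_w := fun h hx hz v => by
      rw [dif_pos hx]
      exact congrArg Subtype.val (D.rho_w ⟨h, hmem hx⟩ (Subtype.ext hz) v)
    rho_om := fun h hx hz u v => by
      rw [dif_pos hx]
      exact D.rho_om ⟨h, hmem hx⟩ (Subtype.ext hz) u v
    rho_ker := fun h hx hz hv => by
      rw [dif_pos hx] at hv
      obtain ⟨k, hk⟩ := D.rho_ker ⟨h, hmem hx⟩ (Subtype.ext hz) hv
      exact ⟨k, congrArg Subtype.val hk⟩ }, fun g hg v => ?_⟩
  obtain ⟨v', c, h1⟩ := D.w_nor ⟨g, hmem hg⟩ v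
  exact ⟨v', c, congrArg Subtype.val h1⟩

/-- **Part B.** -/
theorem exists_wout {G : Type} [Group G] [Finite G] (S : Sit G) : Nonempty (WOut S) :=
  ⟨(exists_wout2 S).choose⟩

end Cfsg.Agent.H211.M5
end

private theorem dce_3016002cb7ef : _root_.True := by
  try have : _root_.True := by simp only [_root_.Cfsg.Agent.H211.M5.SitC.pw.eq_1]
  try have : _root_.True := by simp only [_root_.Cfsg.Agent.H211.M5.SitC.q.eq_1]
  try have : _root_.True := by simp only [_root_.Cfsg.Agent.H211.M5.SitC.K0.eq_1]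
  exact _root_.True.intro
end

-- part: H961/M5/C
section
set_option linter.all false
open scoped Cfsg.Agent.FastGrp

/-!
# `RelH` for the Monster (helper961; task 2146 of helper777)
-/

set_option autoImplicit false
set_option maxRecDepth 100000

namespace Cfsg.Agent.H961.M5.C

open Subgroup Cfsg
open Cfsg.Agent.MonsterU Cfsg.Agent.MFive
open Cfsg.Agent.LThreeMB (fr XX KChart.Cent KChart.pi KChart.chart)
open Cfsg.Agent.MonsterU.Ch
open Cfsg.Agent.MonsterU.Lam2 (L2)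
open Cfsg.Agent.MonsterX Cfsg.Agent.MonsterX.InstData
open Cfsg.Agent.MFive.Row (hc)
open Cfsg.Spor (Co1)
open Cfsg.Agent.H777.M5
open Cfsg.Agent.H961.M5.CWord

/-- **`RelH` for a group with a chart.** -/
theorem exists_rel_chart {G : Type} [Group G] {Q : Subgroup G} {z : G} {eta : G → L2}
    {pi : Subgroup.centralizer ({z} : Set G) →* Co1} (h : Chart Q z eta pi) (S : Sit G)
    (hx : S.x ∈ centralizer ({z} : Set G)) (hu : S.u ∈ centralizer ({z} : Set G)) (hz : S.z = z)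
    (h0 : pi ⟨S.x, hx⟩ = QuotientGroup.mk (JData.e 0)) (h1 : pi ⟨S.u, hu⟩ = QuotientGroup.mk (JData.e 1)) :
    Nonempty (RelH S) := by
  have hp : Nat.Prime 5 := Nat.prime_five
  have ho : Odd 5 := by decide
  subst hz
  have hx5 : (⟨S.x, hx⟩ : centralizer ({S.z} : Set G)) ^ 5 = 1 := by
    apply Subtype.ext
    show S.x ^ 5 = 1
    rw [← S.x_ord, pow_orderOf_eq_one]
  have hfr : fr (pi ⟨S.x, hx⟩) = 1 := by rw [h0, JData.e_zero]; exact Oct.fr_A
  let ψ : ↥(centralizer {S.x} ⊓ centralizer {S.z}) →* Co1 := pi.comp (Subgroup.inclusion inf_le_right)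
  have hψ : ∀ c : ↥(centralizer {S.x} ⊓ centralizer {S.z}), ψ c = 1 ↔ (c : G) = 1 ∨ (c : G) = S.z := by
    intro c
    have h2 : ψ c = 1 ↔ (c : G) ∈ Q := h.pi_eq_one _
    rw [h2]
    constructor
    · intro h3
      exact CpAutBFive.eq_of_fr h ho hx5 hfr h3 (mem_centralizer_singleton_iff.1 (mem_inf.1 c.2).1)
    · rintro (h3 | h3)
      · rw [h3]; exact Q.one_mem
      · rw [h3]; exact h.large.z_mem
  have hlift : ∀ w : List ℕ, sameB' w = true → ∃ c : ↥(centralizer {S.x} ⊓ centralizer {S.z}), ψ c = wd w := by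
    intro w hw
    have h2 : wd w * pi ⟨S.x, hx⟩ = pi ⟨S.x, hx⟩ * wd w := by
      have h3 := wd_eq hw
      rw [wd_append, wd_append, wd_single, ← h0] at h3
      exact h3
    obtain ⟨c, hcx, hcw⟩ := exists_lift h hp ho hx5 h2
    exact ⟨⟨c, mem_inf.2 ⟨mem_centralizer_singleton_iff.2 (congrArg Subtype.val hcx), c.2⟩⟩, hcw⟩
  obtain ⟨i, hi⟩ := hlift wI k29
  obtain ⟨c, hc⟩ := hlift wC k28
  obtain ⟨b, hb⟩ := hlift wB k26
  obtain ⟨b', hb'⟩ := hlift wB' k27
  obtain ⟨a, ha⟩ := hlift wA k25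
  have huH : S.u ∈ centralizer {S.x} ⊓ centralizer {S.z} :=
    mem_inf.2 ⟨mem_centralizer_singleton_iff.2 S.xu.symm, hu⟩
  have hψu : ψ ⟨S.u, huH⟩ = wd [1] := by rw [wd_single, ← h1]; rfl
  refine CAbs.nonempty_relH S ψ hψ huH (i₀ := i) (c₀ := c) (b₀ := b) (b₀' := b') (a₀ := a) ?_
  rw [hi, hc, hb, hb', ha, hψu]
  exact relK

/-- **`RelH` for the Monster.** -/
theorem exists_rel (S : Sit ↥InstData.M.G) (hx : S.x ∈ Subgroup.centralizer ({KDone.K.z} : Set ↥InstData.M.G))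
    (hu : S.u ∈ Subgroup.centralizer ({KDone.K.z} : Set ↥InstData.M.G)) (hz : S.z = KDone.K.z)
    (h0 : KChart.pi hc ⟨S.x, hx⟩ = QuotientGroup.mk (JData.e 0))
    (h1 : KChart.pi hc ⟨S.u, hu⟩ = QuotientGroup.mk (JData.e 1)) : Nonempty (RelH S) :=
  exists_rel_chart (KChart.chart KDone.lft hc) S hx hu hz h0 h1

end Cfsg.Agent.H961.M5.C
end

-- part: H961/M5/C2
section
prune_inst 0x615046406122000000180080a3000020400000920040000151000c40014d22402004000102c00310900084502000002003000110403800000000080040040000002002068048a00021000000b080180c00000000000000000000000000000004000000000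
set_option linter.all false
open scoped Cfsg.Agent.FastGrp

/-!
# `RelH` for the Monster, with the images of `a` and `t` (helper961; task 2894 of helper777)
-/

set_option autoImplicit false
set_option maxRecDepth 100000

namespace Cfsg.Agent.H961.M5.C2

open Subgroup
open Cfsg.Agent.H777.M5
open Cfsg.Agent.H961.M5.CAbs

section

variable {H K : Type*} [Group H] [Group K] {ψ : H →* K} {X Z : H}

/-- **The relations lift.** -/
theorem exists_lifts2 (E : Ext ψ X Z) {u : H} (hu : u * u = 1) {i₀ c₀ b₀ b₀' a₀ : H}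
    (R : RelK (ψ i₀) (ψ c₀) (ψ b₀) (ψ b₀') (ψ a₀) (ψ u)) :
    ∃ i c b b' a : H, c ^ 3 = 1 ∧ b ^ 5 = 1 ∧ b' ^ 5 = 1 ∧ a ^ 5 = 1 ∧ (i * i = 1 ∨ i * i = Z) ∧ i ≠ 1 ∧ i ≠ Z ∧
      i * b = b * i ∧ i * b' = b' * i ∧ c * b = b * c ∧ c * b' = b' * c ∧
      c * (c * i * c⁻¹) * c⁻¹ = i * (c * i * c⁻¹) ∧ a * b = b * a ∧ i * a * i⁻¹ = a⁻¹ ∧
      ((c * i * c⁻¹ * a) ^ 3 = 1 ∨ (c * i * c⁻¹ * a) ^ 3 = Z) ∧
      ((i * (c * i * c⁻¹) * a) ^ 5 = 1 ∨ (i * (c * i * c⁻¹) * a) ^ 5 = Z) ∧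
      (b * b' ^ 3 * b ^ 3 * b') * (b * b' ^ 3 * b ^ 3 * b') = 1 ∧
      (b * b' ^ 3 * b ^ 3 * b') * b * (b * b' ^ 3 * b ^ 3 * b')⁻¹ = b⁻¹ ∧
      (b * b' ^ 3 * b ^ 3 * b') * b' * (b * b' ^ 3 * b ^ 3 * b')⁻¹ = b'⁻¹ ∧
      (b * b' ^ 3 * b ^ 3 * b') * a = a * (b * b' ^ 3 * b ^ 3 * b') ∧
      ((b * b') ^ 3 = 1 ∨ (b * b') ^ 3 = Z) ∧ ((b * b' ^ 2) ^ 2 = 1 ∨ (b * b' ^ 2) ^ 2 = Z) ∧
      ((a * b') ^ 15 = 1 ∨ (a * b') ^ 15 = Z) ∧ b ∉ zpowers X ∧ a * b' * a⁻¹ * b'⁻¹ ∉ zpowers X ∧ ψ a = ψ a₀ ∧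
      ψ (b * b' ^ 3 * b ^ 3 * b') = ψ u := by
  have o3 : Odd 3 := by decide
  have o5 : Odd 5 := by decide
  obtain ⟨c, hc, c3⟩ := E.exists_odd c₀ o3 R.c3
  obtain ⟨b, hb, b5⟩ := E.exists_odd b₀ o5 R.b5
  obtain ⟨b', hb', b'5⟩ := E.exists_odd b₀' o5 R.b'5
  obtain ⟨a, ha, a5⟩ := E.exists_odd a₀ o5 R.a5
  -- the element `i`
  obtain ⟨i, hi, cj⟩ : ∃ i, ψ i = ψ i₀ ∧ c * (c * i * c⁻¹) * c⁻¹ = i * (c * i * c⁻¹) := by
    have h1 : ψ (c * (c * i₀ * c⁻¹) * c⁻¹) = ψ (i₀ * (c * i₀ * c⁻¹)) := by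
      simp only [map_mul, map_inv, hc]
      exact R.cj
    rcases E.eq_or h1 with h2 | h2
    · exact ⟨i₀, rfl, h2⟩
    · refine ⟨i₀ * Z, by rw [map_mul, E.ψz, mul_one], ?_⟩
      have hZc : c * (i₀ * Z) * c⁻¹ = c * i₀ * c⁻¹ * Z := by
        rw [← mul_assoc, mul_assoc _ Z, ← E.zc c⁻¹, ← mul_assoc]
      have hZc2 : c * (c * i₀ * c⁻¹ * Z) * c⁻¹ = c * (c * i₀ * c⁻¹) * c⁻¹ * Z := by
        rw [← mul_assoc c (c * i₀ * c⁻¹) Z, mul_assoc _ Z, ← E.zc c⁻¹, ← mul_assoc]
      rw [hZc, hZc2, h2]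
      calc i₀ * (c * i₀ * c⁻¹) * Z * Z = i₀ * (c * i₀ * c⁻¹) * (Z * Z) := by rw [mul_assoc]
        _ = (i₀ * ((c * i₀ * c⁻¹) * Z)) * Z := by simp only [mul_assoc]
        _ = (i₀ * (Z * (c * i₀ * c⁻¹))) * Z := by rw [E.zc (c * i₀ * c⁻¹)]
        _ = i₀ * Z * (c * i₀ * c⁻¹ * Z) := by simp only [mul_assoc]
  have t0 : ψ (b * b' ^ 3 * b ^ 3 * b') = ψ u := by
    simp only [map_mul, map_pow, hb, hb']
    exact R.t
  set t : H := b * b' ^ 3 * b ^ 3 * b' with ht
  have t2 : t * t = 1 := by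
    rcases E.eq_or t0 with h1 | h1
    · rw [h1, hu]
    · rw [h1]
      calc u * Z * (u * Z) = u * (Z * u) * Z := by simp only [mul_assoc]
        _ = u * (u * Z) * Z := by rw [E.zc u]
        _ = (u * u) * (Z * Z) := by simp only [mul_assoc]
        _ = 1 := by rw [hu, E.z2, one_mul]
  have tb : t * b * t⁻¹ = b⁻¹ := E.inv (by rw [t0, hb]; exact R.tb) o5 b5
  have tb' : t * b' * t⁻¹ = b'⁻¹ := E.inv (by rw [t0, hb']; exact R.tb') o5 b'5
  have ta : t * a = a * t := E.comm (by rw [t0, ha]; exact R.ta) o5 a5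
  have hpow : ∀ y ∈ zpowers X, y ^ 5 = 1 := by
    intro y hy
    obtain ⟨k, rfl⟩ := mem_zpowers_iff.1 hy
    rw [← zpow_natCast, ← zpow_mul, mul_comm, zpow_mul, zpow_natCast, E.x5, one_zpow]
  have hcen : ∀ y ∈ zpowers X, ∀ h, h * y = y * h := by
    intro y hy h
    obtain ⟨k, rfl⟩ := mem_zpowers_iff.1 hy
    exact ((show Commute h X from E.xc h).zpow_right k).eq
  have hinv : ∀ y ∈ zpowers X, y = y⁻¹ → y = 1 := by
    intro y hy h1
    have h2 : y * y = 1 := by
      nth_rewrite 1 [h1]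
      exact inv_mul_cancel y
    calc y = y ^ 5 * ((y * y) * (y * y))⁻¹ := by group
      _ = 1 := by rw [hpow y hy, h2]; group
  refine ⟨i, c, b, b', a, c3, b5, b'5, a5, ?_, ?_, ?_, ?_, ?_, ?_, ?_, cj, ?_, ?_, ?_, ?_, t2, tb, tb', ta, ?_, ?_, ?_, ?_,
    ?_, ha, t0⟩
  · exact E.ker _ (by rw [map_mul, hi]; exact R.i2)
  · intro h1
    apply R.i1
    rw [← hi, h1, map_one]
  · intro h1
    apply R.i1
    rw [← hi, h1, E.ψz]
  · exact E.comm (by rw [hi, hb]; exact R.ib) o5 b5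
  · exact E.comm (by rw [hi, hb']; exact R.ib') o5 b'5
  · exact E.comm (by rw [hc, hb]; exact R.cb) o5 b5
  · exact E.comm (by rw [hc, hb']; exact R.cb') o5 b'5
  · exact E.comm (by rw [ha, hb]; exact R.ab) o5 b5
  · exact E.inv (by rw [hi, ha]; exact R.ia) o5 a5
  · exact E.ker _ (by simp only [map_mul, map_inv, map_pow, hi, hc, ha]; exact R.ja)
  · exact E.ker _ (by simp only [map_mul, map_inv, map_pow, hi, hc, ha]; exact R.ija)
  · exact E.ker _ (by simp only [map_mul, map_pow, hb, hb']; exact R.bb')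
  · exact E.ker _ (by simp only [map_mul, map_pow, hb, hb']; exact R.bb'2)
  · exact E.ker _ (by simp only [map_mul, map_pow, ha, hb']; exact R.ab'15)
  · intro h1
    apply R.b1
    have h2 : b = b⁻¹ := by
      rw [← tb, hcen b h1 t, mul_inv_cancel_right]
    rw [← hb, hinv b h1 h2, map_one]
  · intro h1
    apply R.ab'
    rw [← ha, ← hb', ← map_mul, ← map_mul]
    congr 1
    set y := a * b' * a⁻¹ * b'⁻¹ with hy
    have e1 : a * b' * a⁻¹ = y * b' := by rw [hy]; group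
    -- conjugation by `t`
    have e2 : a * b'⁻¹ * a⁻¹ = y * b'⁻¹ := by
      have e3 : t * (a * b' * a⁻¹) * t⁻¹ = a * b'⁻¹ * a⁻¹ := by
        have e5 : t * (a * b' * a⁻¹) * t⁻¹ = (t * a) * b' * (a⁻¹ * t⁻¹) := by group
        have e6 : a⁻¹ * t⁻¹ = t⁻¹ * a⁻¹ := by rw [← mul_inv_rev, ta, mul_inv_rev]
        rw [e5, ta, e6, ← tb']
        group
      rw [← e3, e1]
      have e4 : t * (y * b') * t⁻¹ = y * (t * b' * t⁻¹) := by
        rw [← mul_assoc t y b', hcen y h1 t]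
        group
      rw [e4, tb']
    have e7 : a * b'⁻¹ * a⁻¹ = b'⁻¹ * y⁻¹ := by
      have : a * b'⁻¹ * a⁻¹ = (a * b' * a⁻¹)⁻¹ := by group
      rw [this, e1, mul_inv_rev]
    have e8 : y = y⁻¹ := by
      rw [e2, ← hcen y h1] at e7
      exact mul_left_cancel e7
    have e9 := hinv y h1 e8
    rw [e9, one_mul] at e1
    exact mul_inv_eq_iff_eq_mul.1 e1

end

/-- **`RelH`** from a homomorphism with kernel `⟨z⟩` of `C(x) ∩ C(z)`. -/
theorem exists_relH2 {G : Type} [Group G] (S : Sit G) {K : Type} [Group K]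
    (ψ : ↥(centralizer {S.x} ⊓ centralizer {S.z}) →* K)
    (hk : ∀ h, ψ h = 1 ↔ (h : G) = 1 ∨ (h : G) = S.z)
    (hu : S.u ∈ centralizer {S.x} ⊓ centralizer {S.z}) {i₀ c₀ b₀ b₀' a₀ : ↥(centralizer {S.x} ⊓ centralizer {S.z})}
    (R : RelK (ψ i₀) (ψ c₀) (ψ b₀) (ψ b₀') (ψ a₀) (ψ ⟨S.u, hu⟩)) :
    ∃ R : RelH S, (∃ ha : R.a ∈ centralizer {S.x} ⊓ centralizer {S.z}, ψ ⟨R.a, ha⟩ = ψ a₀) ∧
      (R.b * R.b' ^ 3 * R.b ^ 3 * R.b' = S.u ∨ R.b * R.b' ^ 3 * R.b ^ 3 * R.b' = S.u * S.z) := by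
  have hx : S.x ∈ centralizer {S.x} ⊓ centralizer {S.z} :=
    mem_inf.2 ⟨mem_centralizer_singleton_iff.2 rfl, mem_centralizer_singleton_iff.2 S.xz⟩
  have hz : S.z ∈ centralizer {S.x} ⊓ centralizer {S.z} :=
    mem_inf.2 ⟨mem_centralizer_singleton_iff.2 S.xz.symm, mem_centralizer_singleton_iff.2 rfl⟩
  have cx : ∀ h : ↥(centralizer {S.x} ⊓ centralizer {S.z}), (h : G) * S.x = S.x * h := fun h =>
    mem_centralizer_singleton_iff.1 (mem_inf.1 h.2).1
  have cz : ∀ h : ↥(centralizer {S.x} ⊓ centralizer {S.z}), (h : G) * S.z = S.z * h := fun h =>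
    mem_centralizer_singleton_iff.1 (mem_inf.1 h.2).2
  have E : Ext ψ ⟨S.x, hx⟩ ⟨S.z, hz⟩ :=
    { zc := fun h => Subtype.ext (cz h)
      z2 := Subtype.ext S.z_sq
      z1 := fun h => S.z_ne (congrArg Subtype.val h)
      ker := by
        intro h h1
        rcases (hk h).1 h1 with h2 | h2
        · exact Or.inl (Subtype.ext h2)
        · exact Or.inr (Subtype.ext h2)
      ψz := (hk _).2 (Or.inr rfl)
      xc := fun h => Subtype.ext (cx h)
      x5 := Subtype.ext (by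
        show S.x ^ 5 = 1
        rw [← S.x_ord, pow_orderOf_eq_one]) }
  obtain ⟨i, c, b, b', a, c3, b5, b'5, a5, i2, i1, iz, ib, ib', cb, cb', cj, ab, ia, ja, ija, t2, tb, tb', ta, bb', bb'2,
    ab'15, b1, ab', haψ, htψ⟩ := exists_lifts2 E (u := ⟨S.u, hu⟩) (Subtype.ext S.u_sq) R
  have hzp : ∀ y : ↥(centralizer {S.x} ⊓ centralizer {S.z}), (y : G) ∈ zpowers S.x →
      y ∈ zpowers (⟨S.x, hx⟩ : ↥(centralizer {S.x} ⊓ centralizer {S.z})) := by
    intro y hy
    obtain ⟨k, hk⟩ := mem_zpowers_iff.1 hy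
    exact mem_zpowers_iff.2 ⟨k, Subtype.ext hk⟩
  refine ⟨{
    i := i
    c := c
    b := b
    b' := b'
    a := a
    ix := cx i
    cx := cx c
    bx := cx b
    b'x := cx b'
    ax := cx a
    iz := cz i
    cz := cz c
    bz := cz b
    b'z := cz b'
    az := cz a
    c3 := congrArg Subtype.val c3
    b5 := congrArg Subtype.val b5
    b'5 := congrArg Subtype.val b'5
    a5 := congrArg Subtype.val a5
    i2 := i2.imp (congrArg Subtype.val) (congrArg Subtype.val)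
    i_ne := fun h => i1 (Subtype.ext h)
    i_nez := fun h => iz (Subtype.ext h)
    ib := congrArg Subtype.val ib
    ib' := congrArg Subtype.val ib'
    cb := congrArg Subtype.val cb
    cb' := congrArg Subtype.val cb'
    cj := congrArg Subtype.val cj
    ab := congrArg Subtype.val ab
    ia := congrArg Subtype.val ia
    ja := ja.imp (congrArg Subtype.val) (congrArg Subtype.val)
    ija := ija.imp (congrArg Subtype.val) (congrArg Subtype.val)
    t2 := congrArg Subtype.val t2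
    tb := congrArg Subtype.val tb
    tb' := congrArg Subtype.val tb'
    ta := congrArg Subtype.val ta
    bb' := bb'.imp (congrArg Subtype.val) (congrArg Subtype.val)
    bb'2 := bb'2.imp (congrArg Subtype.val) (congrArg Subtype.val)
    ab'15 := ab'15.imp (congrArg Subtype.val) (congrArg Subtype.val)
    b_ne := fun h => b1 (hzp _ h)
    ab'_ne := fun h => ab' (hzp (a * b' * a⁻¹ * b'⁻¹) h) }, ⟨a.2, haψ⟩, ?_⟩
  rcases E.eq_or htψ with h | h
  · exact Or.inl (congrArg Subtype.val h)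
  · exact Or.inr (congrArg Subtype.val h)


section

open Subgroup Cfsg
open Cfsg.Agent.MonsterU Cfsg.Agent.MFive
open Cfsg.Agent.LThreeMB (fr XX KChart.Cent KChart.pi KChart.chart)
open Cfsg.Agent.MonsterU.Ch
open Cfsg.Agent.MonsterU.Lam2 (L2)
open Cfsg.Agent.MonsterX Cfsg.Agent.MonsterX.InstData
open Cfsg.Agent.MFive.Row (hc)
open Cfsg.Spor (Co1)
open Cfsg.Agent.H961.M5.CWord

/-- **`RelH` for a group with a chart**, with the images of `a` and `t`. -/
theorem exists_rel_chart2 {G : Type} [Group G] {Q : Subgroup G} {z : G} {eta : G → L2}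
    {pi : Subgroup.centralizer ({z} : Set G) →* Co1} (h : Chart Q z eta pi) (S : Sit G)
    (hx : S.x ∈ centralizer ({z} : Set G)) (hu : S.u ∈ centralizer ({z} : Set G)) (hz : S.z = z)
    (h0 : pi ⟨S.x, hx⟩ = QuotientGroup.mk (JData.e 0)) (h1 : pi ⟨S.u, hu⟩ = QuotientGroup.mk (JData.e 1)) :
    ∃ R : RelH S, (∃ ha : R.a ∈ centralizer ({z} : Set G), pi ⟨R.a, ha⟩ = wd wA) ∧
      (R.b * R.b' ^ 3 * R.b ^ 3 * R.b' = S.u ∨ R.b * R.b' ^ 3 * R.b ^ 3 * R.b' = S.u * S.z) := by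
  have hp : Nat.Prime 5 := Nat.prime_five
  have ho : Odd 5 := by decide
  subst hz
  have hx5 : (⟨S.x, hx⟩ : centralizer ({S.z} : Set G)) ^ 5 = 1 := by
    apply Subtype.ext
    show S.x ^ 5 = 1
    rw [← S.x_ord, pow_orderOf_eq_one]
  have hfr : fr (pi ⟨S.x, hx⟩) = 1 := by rw [h0, JData.e_zero]; exact Oct.fr_A
  let ψ : ↥(centralizer {S.x} ⊓ centralizer {S.z}) →* Co1 := pi.comp (Subgroup.inclusion inf_le_right)
  have hψ : ∀ c : ↥(centralizer {S.x} ⊓ centralizer {S.z}), ψ c = 1 ↔ (c : G) = 1 ∨ (c : G) = S.z := by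
    intro c
    have h2 : ψ c = 1 ↔ (c : G) ∈ Q := h.pi_eq_one _
    rw [h2]
    constructor
    · intro h3
      exact CpAutBFive.eq_of_fr h ho hx5 hfr h3 (mem_centralizer_singleton_iff.1 (mem_inf.1 c.2).1)
    · rintro (h3 | h3)
      · rw [h3]; exact Q.one_mem
      · rw [h3]; exact h.large.z_mem
  have hlift : ∀ w : List ℕ, sameB' w = true → ∃ c : ↥(centralizer {S.x} ⊓ centralizer {S.z}), ψ c = wd w := by
    intro w hw
    have h2 : wd w * pi ⟨S.x, hx⟩ = pi ⟨S.x, hx⟩ * wd w := by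
      have h3 := wd_eq hw
      rw [wd_append, wd_append, wd_single, ← h0] at h3
      exact h3
    obtain ⟨c, hcx, hcw⟩ := exists_lift h hp ho hx5 h2
    exact ⟨⟨c, mem_inf.2 ⟨mem_centralizer_singleton_iff.2 (congrArg Subtype.val hcx), c.2⟩⟩, hcw⟩
  obtain ⟨i, hi⟩ := hlift wI k29
  obtain ⟨c, hc⟩ := hlift wC k28
  obtain ⟨b, hb⟩ := hlift wB k26
  obtain ⟨b', hb'⟩ := hlift wB' k27
  obtain ⟨a, ha⟩ := hlift wA k25
  have huH : S.u ∈ centralizer {S.x} ⊓ centralizer {S.z} :=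
    mem_inf.2 ⟨mem_centralizer_singleton_iff.2 S.xu.symm, hu⟩
  have hψu : ψ ⟨S.u, huH⟩ = wd [1] := by rw [wd_single, ← h1]; rfl
  obtain ⟨R, ⟨haH, haψ⟩, ht⟩ := exists_relH2 S ψ hψ huH (i₀ := i) (c₀ := c) (b₀ := b) (b₀' := b') (a₀ := a) (by
    rw [hi, hc, hb, hb', ha, hψu]
    exact relK)
  refine ⟨R, ⟨(mem_inf.1 haH).2, ?_⟩, ht⟩
  rw [← ha, ← haψ]
  rfl


/-- **`RelH` for the Monster**, with the images of `a` and `t`. -/
theorem exists_rel2 (S : Sit ↥InstData.M.G) (hx : S.x ∈ Subgroup.centralizer ({KDone.K.z} : Set ↥InstData.M.G))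
    (hu : S.u ∈ Subgroup.centralizer ({KDone.K.z} : Set ↥InstData.M.G)) (hz : S.z = KDone.K.z)
    (h0 : KChart.pi hc ⟨S.x, hx⟩ = QuotientGroup.mk (JData.e 0))
    (h1 : KChart.pi hc ⟨S.u, hu⟩ = QuotientGroup.mk (JData.e 1)) :
    ∃ R : RelH S, (∃ ha : R.a ∈ centralizer ({KDone.K.z} : Set ↥InstData.M.G), KChart.pi hc ⟨R.a, ha⟩ = wd wA) ∧
      (R.b * R.b' ^ 3 * R.b ^ 3 * R.b' = S.u ∨ R.b * R.b' ^ 3 * R.b ^ 3 * R.b' = S.u * S.z) :=
  exists_rel_chart2 (KChart.chart KDone.lft hc) S hx hu hz h0 h1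

end

end Cfsg.Agent.H961.M5.C2
end

-- part: H961/M5/MXB
section
set_option linter.all false
open scoped Cfsg.Agent.FastGrp

/-!
# `MX` for the Monster (helper961; task 2894 of helper777)

`exists_MX : Nonempty (MX ↥InstData.M.G)`.
-/

set_option autoImplicit false
set_option maxRecDepth 100000

namespace Cfsg.Agent.H961.M5.MXB

open Subgroup Matrix
open Cfsg.Agent.H777.M5 Cfsg.Agent.H411.M5

/-! ### `t ≠ u z` -/

/-- `w(v) x^c` with `v 1 = v 4 = 0` -/
def FU : Subgroup PG where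
  carrier := {y | y.i = 0 ∧ y.j = 0 ∧ y.v 1 = 0 ∧ y.v 4 = 0}
  one_mem' := ⟨rfl, rfl, rfl, rfl⟩
  mul_mem' := by
    rintro x y ⟨h1, h2, h3, h4⟩ ⟨k1, k2, k3, k4⟩
    refine ⟨by rw [PG.mul_i, h1, k1, add_zero], by rw [PG.mul_j, h2, k2, add_zero], ?_, ?_⟩
    · rw [PG.mul_v, Pi.add_apply, h1, h2, act_one, h3, k3, add_zero]
    · rw [PG.mul_v, Pi.add_apply, h1, h2, act_one, h4, k4, add_zero]
  inv_mem' := by
    rintro x ⟨h1, h2, h3, h4⟩
    refine ⟨by rw [PG.inv_i, h1, neg_zero], by rw [PG.inv_j, h2, neg_zero], ?_, ?_⟩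
    · rw [PG.inv_v, Pi.neg_apply, h1, h2, neg_zero, act_one, h3, neg_zero]
    · rw [PG.inv_v, Pi.neg_apply, h1, h2, neg_zero, act_one, h4, neg_zero]

theorem card_FU : 5 ^ 5 ≤ Nat.card ↥FU := by
  let f : ZMod 5 × ZMod 5 × ZMod 5 × ZMod 5 × ZMod 5 → ↥FU := fun p =>
    ⟨⟨![p.1, 0, p.2.1, p.2.2.1, 0, p.2.2.2.1], p.2.2.2.2, 0, 0⟩, rfl, rfl, rfl, rfl⟩
  have hf : Function.Injective f := by
    rintro ⟨a0, a2, a3, a5, c⟩ ⟨b0, b2, b3, b5, d⟩ h
    have h1 := congrArg (fun y : ↥FU => (y : PG).v 0) h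
    have h2 := congrArg (fun y : ↥FU => (y : PG).v 2) h
    have h3 := congrArg (fun y : ↥FU => (y : PG).v 3) h
    have h4 := congrArg (fun y : ↥FU => (y : PG).v 5) h
    have h5 := congrArg (fun y : ↥FU => (y : PG).c) h
    have h1 : a0 = b0 := h1
    have h2 : a2 = b2 := h2
    have h3 : a3 = b3 := h3
    have h4 : a5 = b5 := h4
    have h5 : c = d := h5
    rw [h1, h2, h3, h4, h5]
  have h := Nat.card_le_card_of_injective f hf
  have e : Nat.card (ZMod 5 × ZMod 5 × ZMod 5 × ZMod 5 × ZMod 5) = 5 ^ 5 := by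
    simp only [Nat.card_prod, Nat.card_zmod]
    norm_num
  rwa [e] at h

theorem tM_neg {v : V6} (h1 : v 1 = 0) (h4 : v 4 = 0) : tM *ᵥ (-v) = v := by
  have h5 : (4 : ZMod 5) = -1 := by decide
  funext k
  simp only [tM, mulVec, dotProduct, Fin.sum_univ_six, Pi.neg_apply, h1, h4]
  fin_cases k <;> simp [h1, h4, h5]

theorem not_uz {G : Type} [Group G] [Finite G] (S : Sit G) (P : PData G) {t : G}
    (hx : ∀ g : G, g * P.x = P.x * g → g * S.x = S.x * g) (htw : ∀ v, t * P.w v * t⁻¹ = P.w (tM *ᵥ v))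
    (hzw : ∀ v, S.z * P.w v * S.z⁻¹ = P.w (-v)) (hux : S.u * P.x = P.x * S.u) : t ≠ S.u * S.z := by
  intro ht
  have hu : S.u = t * S.z := by rw [ht, mul_assoc, S.z_sq, mul_one]
  have huw : ∀ v : V6, v 1 = 0 → v 4 = 0 → S.u * P.w v = P.w v * S.u := by
    intro v h1 h4
    have h2 : S.u * P.w v * S.u⁻¹ = P.w v := by
      rw [hu]
      calc t * S.z * P.w v * (t * S.z)⁻¹ = t * (S.z * P.w v * S.z⁻¹) * t⁻¹ := by group
        _ = P.w v := by rw [hzw, htw, tM_neg h1 h4]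
    exact mul_inv_eq_iff_eq_mul.1 h2
  have hp : IsPGroup 5 ↥(FU.map (PDat.hom P)) := (isPGroup_PG.to_subgroup FU).map _
  have h1 := S.S_max (FU.map (PDat.hom P)) hp ?_ ?_
  · rw [card_map_of_injective (PDat.hom_injective P)] at h1
    have h2 := card_FU.trans h1
    norm_num at h2
  · rintro _ ⟨y, ⟨h1, h2, -, -⟩, rfl⟩
    rw [mem_centralizer_singleton_iff]
    apply hx
    rw [PDat.hom_apply, h1, h2, ZMod.val_zero, pow_zero, pow_zero, mul_one, mul_one, mul_assoc, ← pow_succ, pow_succ',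
      ← mul_assoc, ← mul_assoc, P.x_w]
  · rintro _ ⟨y, ⟨h1, h2, h3, h4⟩, rfl⟩
    rw [mem_centralizer_singleton_iff, PDat.hom_apply, h1, h2, ZMod.val_zero, pow_zero, pow_zero, mul_one, mul_one,
      ← mul_assoc, huw _ h3 h4, mul_assoc, mul_assoc]
    congr 1
    exact ((show Commute S.u P.x from hux).pow_right _).eq.symm

/-! ### the assembly, abstractly -/

theorem five_pow_inv {G : Type} [Group G] [Finite G] {x y : G} {k : ℕ} (hy : y = x ^ k) (y1 : y ≠ 1) (hx : orderOf x = 5) :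
    ∃ m : ℕ, x = y ^ m := by
  have h1 : orderOf y = 5 := by
    have : Fact (Nat.Prime 5) := ⟨Nat.prime_five⟩
    refine orderOf_eq_prime ?_ y1
    rw [hy, ← pow_mul, mul_comm, pow_mul, ← hx, pow_orderOf_eq_one, one_pow]
  have h2 : zpowers y = zpowers x := by
    apply Subgroup.eq_of_le_of_card_ge
    · rw [zpowers_le, hy]
      exact pow_mem (mem_zpowers x) k
    · rw [Nat.card_zpowers, Nat.card_zpowers, h1, hx]
  have h3 : x ∈ Submonoid.powers y := by
    rw [mem_powers_iff_mem_zpowers, h2]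
    exact mem_zpowers x
  obtain ⟨m, hm⟩ := h3
  exact ⟨m, hm.symm⟩

/-- **`MX` from the data.** -/
theorem exists_MX_of {G : Type} [Group G] [Finite G] (S : Sit G) (W : WOut S)
    (hW : ∀ g, g * S.x = S.x * g → ∀ v, ∃ (v' : V6) (c : ℕ), g * W.w v * g⁻¹ = W.w v' * S.x ^ c) (R : RelH S)
    (ht : R.b * R.b' ^ 3 * R.b ^ 3 * R.b' = S.u ∨ R.b * R.b' ^ 3 * R.b ^ 3 * R.b' = S.u * S.z)
    (ha : ∃ (g : G) (n : ℕ), g * R.a * g⁻¹ = S.x ^ n)
    (hbig : 5 ^ 9 ∣ Nat.card ↥(centralizer ({S.x} : Set G)) → ∀ y : G, orderOf y = 5 → y * S.u = S.u * y →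
      5 ^ 7 ∣ Nat.card ↥(centralizer ({y} : Set G))) : Nonempty (MX G) := by
  obtain ⟨P, k, hPx, hPa, hPb, ⟨L, hL⟩, hb', i, j, -, -, ix, iz, jx, jz, hiw, hjw⟩ :=
    Cfsg.Agent.H255.M5D.exists_pdata2 S W R
  obtain ⟨m, hm⟩ := five_pow_inv hPx P.x_ne S.x_ord
  have toP : ∀ g : G, g * S.x = S.x * g → g * P.x = P.x * g := by
    intro g hg
    rw [hPx]
    exact ((show Commute g S.x from hg).pow_right k).eq
  have toS : ∀ g : G, g * P.x = P.x * g → g * S.x = S.x * g := by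
    intro g hg
    rw [hm]
    exact ((show Commute g P.x from hg).pow_right m).eq
  have hzw : ∀ v, S.z * P.w v * S.z⁻¹ = P.w (-v) := by
    intro v
    rw [hL, W.w_z, hL, map_neg]
  set t := R.b * R.b' ^ 3 * R.b ^ 3 * R.b' with htd
  have hbw : ∀ v, R.b * P.w v * R.b⁻¹ = P.w (bM *ᵥ v) := by
    intro v
    rw [← hPb]
    exact P.b_w v
  have htw : ∀ v, t * P.w v * t⁻¹ = P.w (tM *ᵥ v) := by
    intro v
    have h1 : t * P.w v = P.w (tM *ᵥ v) * t := by
      have e1 : R.b' * P.w v = P.w (bpM *ᵥ v) * R.b' := by rw [← hb' v, inv_mul_cancel_right]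
      have e2 : ∀ v, R.b * P.w v = P.w (bM *ᵥ v) * R.b := fun v => by rw [← hbw v, inv_mul_cancel_right]
      rw [htd, tM_eq]
      calc R.b * R.b' ^ 3 * R.b ^ 3 * R.b' * P.w v = R.b * (R.b' ^ 3 * (R.b ^ 3 * (R.b' * P.w v))) := by
            simp only [mul_assoc]
        _ = R.b * (R.b' ^ 3 * ((R.b ^ 3 * P.w (bpM *ᵥ v)) * R.b')) := by rw [e1]; simp only [mul_assoc]
        _ = R.b * ((R.b' ^ 3 * P.w (bM ^ 3 *ᵥ (bpM *ᵥ v))) * (R.b ^ 3 * R.b')) := by
            rw [conj_pow_of hbw]; simp only [mul_assoc]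
        _ = (R.b * P.w (bpM ^ 3 *ᵥ (bM ^ 3 *ᵥ (bpM *ᵥ v)))) * (R.b' ^ 3 * (R.b ^ 3 * R.b')) := by
            rw [conj_pow_of hb']; simp only [mul_assoc]
        _ = P.w ((bM * bpM ^ 3 * bM ^ 3 * bpM) *ᵥ v) * (R.b * R.b' ^ 3 * R.b ^ 3 * R.b') := by
            rw [e2]; simp only [mulVec_mulVec, mul_assoc]
    rw [h1, mul_inv_cancel_right]
  have htu : t = S.u := ht.resolve_right (not_uz S P toS htw hzw (toP _ S.xu.symm))
  have h9 : 5 ^ 9 ∣ Nat.card ↥(centralizer ({S.x} : Set G)) := by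
    have h1 : (PDat.hom P).range ≤ centralizer ({S.x} : Set G) := by
      rintro _ ⟨y, rfl⟩
      rw [mem_centralizer_singleton_iff]
      apply toS
      rw [PDat.hom_apply]
      have c1 : Commute P.x (P.w y.v) := P.x_w _
      have c2 : Commute P.x P.a := P.x_a
      have c3 : Commute P.x P.b := P.x_b
      exact (((c1.mul_right (Commute.pow_right (Commute.refl _) _)).mul_right ((c2.pow_right _).mul_right
        (c3.pow_right _))).eq).symm
    rw [← PDat.card_range P]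
    exact card_dvd_of_le h1
  have ctx : t * S.x = S.x * t := by rw [htu]; exact S.xu.symm
  exact ⟨{ P with
    z := S.z
    i := i
    j := j
    b' := R.b'
    t := t
    zx := toP _ S.xz.symm
    ix := toP _ ix
    jx := toP _ jx
    b'x := toP _ R.b'x
    tx := toP _ ctx
    za := by rw [hPa]; exact R.az.symm
    zb := by rw [hPb]; exact R.bz.symm
    zi := iz.symm
    zj := jz.symm
    zb' := R.b'z.symm
    tz := by rw [htu]; exact S.uz
    ta := by rw [hPa]; exact R.ta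
    tb := by rw [hPb]; exact R.tb
    z_w := hzw
    i_w := hiw
    j_w := hjw
    b'_w := hb'
    t_w := htw
    ker := by
      intro h hx hz hv
      have hx' := toS h hx
      have h1 : h ∈ zpowers S.x := by
        refine W.rho_ker h hx' hz ?_
        intro v
        have h2 := hv (L.symm v)
        rw [hL, LinearEquiv.apply_symm_apply, W.rho_w h hx' hz] at h2
        exact Cfsg.Agent.H255.M5D.w_inj W h2
      have h2 : zpowers S.x ≤ zpowers P.x := by
        rw [zpowers_le, hm]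
        exact pow_mem (mem_zpowers _) m
      exact h2 h1
    normal := by
      intro g hg v
      obtain ⟨v', c, h⟩ := hW g (toS g hg) (L v)
      refine ⟨L.symm v', m * c, ?_⟩
      rw [hL, h, hL, LinearEquiv.apply_symm_apply, pow_mul, ← hm]
    a_conj := by
      obtain ⟨g, n, h⟩ := ha
      refine ⟨g, m * n, ?_⟩
      rw [hPa, h, pow_mul, ← hm]
    big := by
      intro y hy hyt
      refine hbig h9 y hy ?_
      rw [← htu]
      exact hyt
    not_dvd := S.not_dvd }⟩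

/-! ### the Monster -/

section model

open Cfsg
open Cfsg.Agent.MonsterU Cfsg.Agent.MFive
open Cfsg.Agent.LThreeMB (fr XX KChart.Cent KChart.pi KChart.chart)
open Cfsg.Agent.MonsterX Cfsg.Agent.MonsterX.InstData
open Cfsg.Agent.SporadicA.Co0Mono (signCo0)
open Cfsg.Agent.MFive.Row (hc)
open Cfsg.Spor (Co1)
open Cfsg.Agent.H961.M5.T3 (hJ card_model card_co1)
open Cfsg.Agent.H961.M5.CWord (wd wA)

/-- **The situation `Sit` for the Monster**: `u` is conjugate to `z`. -/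
theorem exists_sit2 :
    ∃ (S : Sit ↥InstData.M.G) (hx : S.x ∈ Subgroup.centralizer ({KDone.K.z} : Set ↥InstData.M.G))
      (hu : S.u ∈ Subgroup.centralizer ({KDone.K.z} : Set ↥InstData.M.G)), S.z = KDone.K.z ∧
      KChart.pi hc ⟨S.x, hx⟩ = QuotientGroup.mk (JData.e 0) ∧ KChart.pi hc ⟨S.u, hu⟩ = QuotientGroup.mk (JData.e 1) ∧
      ∃ g : ↥InstData.M.G, g * KDone.K.z * g⁻¹ = S.u := by
  have hfin := MFive.Row.finite_model
  obtain ⟨x, u, g, hx, hxs, hus, -, hxu, hne, hg⟩ := Sec.exists_pair Nat.prime_five (by decide) KDone.lft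
    LThreeMBTr.tens MFive.Row.hc MFive.Row.two JTwo.order_s1 Oct.fr_A Oct.wt_cw
    (congrArg (QuotientGroup.mk : Co0 → Co1) JTwo.eps_comm).symm
  rw [← JData.e_zero] at hxs
  rw [← JData.e_one] at hus
  have hfr : fr (KChart.pi MFive.Row.hc x) = 1 := by rw [hxs, JData.e_zero]; exact Oct.fr_A
  obtain ⟨S, h1, h2, h3⟩ := T3Abs.exists_sit_chart (KChart.chart KDone.lft MFive.Row.hc) BpSpor.M5.trNe
    (CpAutBFive.Closed.coFive hJ) hJ CpAutBFive.Closed.hnEight card_model card_co1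
    (fun s hs hf => Cfsg.Agent.H415.M5.sylow_five hs hf) hx hfr hxu hne hg
    (by rw [hxs, hus]; exact fun R h0 h1 => Cfsg.Agent.H219.No125.no125 R h0 h1)
  refine ⟨S, h1 ▸ x.2, h2 ▸ u.2, h3, ?_, ?_, g, by rw [hg, h2]⟩
  · rw [← hxs]
    congr 1
    exact Subtype.ext h1
  · rw [← hus]
    congr 1
    exact Subtype.ext h2

theorem card_HN {A : Type} [Group A] (h : Spor.IsoHN A) : Nat.card A = 273030912000000 := by
  obtain ⟨e⟩ := h
  exact (Nat.card_congr e.toEquiv).trans Cfsg.Agent.S1701.result.2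

theorem card_cent_conj {G : Type} [Group G] {g x y : G} (h : g * x * g⁻¹ = y) :
    Nat.card ↥(centralizer ({x} : Set G)) = Nat.card ↥(centralizer ({y} : Set G)) := by
  obtain ⟨⟨e⟩, -⟩ := Cfsg.Agent.LThreeMB.exists_XX_equiv h
  exact Nat.card_congr e.toEquiv

/-- **`MX` for the Monster.** -/
theorem exists_MX : Nonempty (MX ↥InstData.M.G) := by
  have hfin := MFive.Row.finite_model
  have h5 : Fact (Nat.Prime 5) := ⟨Nat.prime_five⟩
  have hp : Nat.Prime 5 := Nat.prime_five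
  have ho : Odd 5 := by decide
  obtain ⟨S, hx, hu, hz, h0, h1, g₀, hg₀⟩ := exists_sit2
  obtain ⟨W, hW⟩ := Cfsg.Agent.H211.M5.exists_wout2 S
  obtain ⟨R, ⟨haz, hpa⟩, ht⟩ := C2.exists_rel2 S hx hu hz h0 h1
  have hch := KChart.chart KDone.lft hc
  have hx5 : (⟨S.x, hx⟩ : centralizer ({KDone.K.z} : Set ↥InstData.M.G)) ^ 5 = 1 := by
    apply Subtype.ext
    show S.x ^ 5 = 1
    rw [← S.x_ord, pow_orderOf_eq_one]
  have hxo : orderOf (⟨S.x, hx⟩ : centralizer ({KDone.K.z} : Set ↥InstData.M.G)) = 5 := by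
    rw [Subgroup.orderOf_mk, S.x_ord]
  have hpx : orderOf (KChart.pi hc ⟨S.x, hx⟩) = 5 := orderOf_pi hch hp ho hxo
  have hfx : fr (KChart.pi hc ⟨S.x, hx⟩) = 1 := by rw [h0, JData.e_zero]; exact Oct.fr_A
  -- the elements of order 5 and fixed rank 0
  have key : ∀ y : centralizer ({KDone.K.z} : Set ↥InstData.M.G), y ^ 5 = 1 → orderOf (KChart.pi hc y) = 5 →
      fr (KChart.pi hc y) = 1 → ∃ g : ↥InstData.M.G, g * (y : ↥InstData.M.G) * g⁻¹ = S.x := by
    intro y hy hyo hyf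
    obtain ⟨s, hs⟩ := isConj_iff.1 (CoFive.Ranks.isConj_of_fr hyo hpx (hyf.trans hfx.symm))
    obtain ⟨c, hc⟩ := exists_conj_of_conj hch hp ho hy hx5 hs
    exact ⟨c, congrArg Subtype.val hc⟩
  refine exists_MX_of S W hW R ht ?_ ?_
  · obtain ⟨g, hg⟩ := key ⟨R.a, haz⟩ (Subtype.ext R.a5) (by rw [hpa]; exact Cfsg.Agent.H772.M5.FrA.orderOf_wd)
      (by rw [hpa]; exact Cfsg.Agent.H772.M5.FrA.fr_wd)
    exact ⟨g, 1, by rw [pow_one]; exact hg⟩
  · intro h9 y hy hyu
    rcases MFive.Row.cases_model (CpAutBFive.Closed.coFive hJ) CpAutBFive.Closed.hnEight hy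
      ⟨g₀, by rw [hg₀]; exact hyu.symm⟩ with h | ⟨x₀, k, i, hx₀, hf₀, hk⟩
    · rw [Cfsg.Agent.H961.SevX.card_cent, card_HN h, hy]
      norm_num
    · have hi : (x₀ : ↥InstData.M.G) ^ i ≠ 1 := by
        intro h
        rw [h] at hk
        have h2 : y = 1 := by
          calc y = k⁻¹ * (k * y * k⁻¹) * k := by group
            _ = 1 := by rw [hk]; group
        rw [h2, orderOf_one] at hy
        norm_num at hy
      obtain ⟨m, hm⟩ := five_pow_inv (x := (x₀ : ↥InstData.M.G)) rfl hi (by rw [Subgroup.orderOf_coe, hx₀])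
      obtain ⟨g, hg⟩ := key x₀ (by rw [← hx₀, pow_orderOf_eq_one]) (orderOf_pi hch hp ho hx₀) hf₀
      have e1 : centralizer ({(x₀ : ↥InstData.M.G) ^ i} : Set ↥InstData.M.G) =
          centralizer ({(x₀ : ↥InstData.M.G)} : Set ↥InstData.M.G) := by
        apply le_antisymm
        · intro c hc
          rw [mem_centralizer_singleton_iff] at hc ⊢
          rw [hm]
          exact ((show Commute c ((x₀ : ↥InstData.M.G) ^ i) from hc).pow_right m).eq
        · intro c hc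
          rw [mem_centralizer_singleton_iff] at hc ⊢
          exact ((show Commute c (x₀ : ↥InstData.M.G) from hc).pow_right i).eq
      rw [card_cent_conj hk, e1, card_cent_conj hg]
      exact (pow_dvd_pow 5 (by norm_num)).trans h9

end model

end Cfsg.Agent.H961.M5.MXB

private theorem dce_5225e285af6c : _root_.True := by
  try have : _root_.True := by simp only [_root_.Cfsg.Agent.H777.M5.tM.eq_1]
  exact _root_.True.intro
end

-- part: H777/M5/Real
section
set_option linter.all false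
open scoped Cfsg.Agent.FastGrp

/-!
# The Sylow 5-subgroup of the Monster is `PG` (helper777)
-/

set_option autoImplicit false

namespace Cfsg.Agent.H777.M5

open Cfsg Cfsg.Agent.MonsterX

theorem finite_MG : Finite ↥InstData.M.G := Cfsg.Agent.MFive.Row.finite_model

/-- **The data of `PG` in the model of the Monster.** -/
theorem exists_data : ∃ _ : PData ↥InstData.M.G, ¬ 5 ^ 10 ∣ Nat.card ↥InstData.M.G := by
  have := finite_MG
  obtain ⟨S, hx, hu, hz, h0, h1⟩ := Cfsg.Agent.H961.M5.T3.exists_sit_of_syl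
    (fun s hs hf => Cfsg.Agent.H415.M5.sylow_five hs hf)
  obtain ⟨W⟩ := Cfsg.Agent.H211.M5.exists_wout S
  obtain ⟨R⟩ := Cfsg.Agent.H961.M5.C.exists_rel S hx hu hz h0 h1
  obtain ⟨P, -⟩ := Cfsg.Agent.H255.M5D.exists_pdata S W R
  exact ⟨P, S.not_dvd⟩

/-- **A Sylow 5-subgroup of the Monster is isomorphic to `PG`.** -/
theorem exists_equiv_PG (T : Sylow 5 Spor.Monster) : Nonempty (PG ≃* ↥(T : Subgroup Spor.Monster)) := by
  have := finite_MG
  obtain ⟨e⟩ := Cfsg.Agent.MonsterP.Equiv.equiv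
  obtain ⟨P, h⟩ := exists_data
  have : Finite Spor.Monster := Finite.of_equiv _ e.symm.toEquiv
  have : Fact (Nat.Prime 5) := ⟨Nat.prime_five⟩
  let T' : Sylow 5 ↥InstData.M.G := Sylow.ofCard ((T : Subgroup Spor.Monster).map e.toMonoidHom) (by
    rw [← Nat.card_congr ((T : Subgroup Spor.Monster).equivMapOfInjective e.toMonoidHom e.injective).toEquiv,
      ← Nat.card_congr e.toEquiv]
    exact T.card_eq_multiplicity)
  obtain ⟨e'⟩ := Cfsg.Agent.H411.M5.exists_equiv_sylow P h T'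
  exact ⟨e'.trans ((T : Subgroup Spor.Monster).equivMapOfInjective e.toMonoidHom e.injective).symm⟩

theorem upper_map {A B : Type*} [Group A] [Group B] (e : A ≃* B) :
    (Subgroup.upperCentralSeries A 2).map e.toMonoidHom = Subgroup.upperCentralSeries B 2 := by
  ext y
  constructor
  · rintro ⟨x, hx, rfl⟩
    have h := Subgroup.comap_upperCentralSeries e 2
    rw [SetLike.mem_coe, ← h] at hx
    exact hx
  · intro hy
    refine ⟨e.symm y, ?_, e.apply_symm_apply y⟩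
    have h := Subgroup.comap_upperCentralSeries e 2
    rw [SetLike.mem_coe, ← h]
    show e (e.symm y) ∈ Subgroup.upperCentralSeries B 2
    rw [e.apply_symm_apply]
    exact hy

/-- **The centralizer of the second centre is isomorphic to `CG`.** -/
theorem exists_equiv_cent {P : Type*} [Group P] (e : PG ≃* P) :
    Nonempty (CG ≃* ↥(Subgroup.centralizer ((Subgroup.upperCentralSeries P 2 : Subgroup P) : Set P))) := by
  obtain ⟨e1⟩ := Cfsg.Agent.H411.M5.exists_equiv_CG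
  have h : (Subgroup.centralizer ((Subgroup.upperCentralSeries PG 2 : Subgroup PG) : Set PG)).map e.toMonoidHom =
      Subgroup.centralizer ((Subgroup.upperCentralSeries P 2 : Subgroup P) : Set P) := by
    rw [← upper_map e]
    ext y
    simp only [Subgroup.mem_map, Subgroup.mem_centralizer_iff]
    constructor
    · rintro ⟨x, hx, rfl⟩ z hz
      obtain ⟨z', hz', rfl⟩ := hz
      show e z' * e x = e x * e z'
      rw [← map_mul, ← map_mul, hx z' hz']
    · intro hy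
      refine ⟨e.symm y, fun z hz => ?_, e.apply_symm_apply y⟩
      apply e.injective
      rw [map_mul, map_mul, e.apply_symm_apply]
      exact hy _ ⟨z, hz, rfl⟩
  exact ⟨e1.trans (((Subgroup.centralizer ((Subgroup.upperCentralSeries PG 2 : Subgroup PG) : Set PG)).equivMapOfInjective
    e.toMonoidHom e.injective).trans (MulEquiv.subgroupCongr h))⟩

end Cfsg.Agent.H777.M5
end
end
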